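import Cfsg.Agent.Lib.ConwayType.ThreeCent.Nonsplit
import Cfsg.Agent.Lib.ConwayType.JTwo.Main

/-!
The centralizer of an element of order three in a group of Conway type, given the recognition of the Suzuki group.
-/

set_option autoImplicit false
set_option linter.all false
set_option maxRecDepth 20000

namespace Cfsg.Agent.ConwayType.ThreeCent

open Subgroup Cfsg.Agent.LargeExtra Cfsg.Agent.OctadInv.Orbits Cfsg.Agent.ConwayType.JTwo
open Cfsg.Agent.ConwayType.Octad (Gen exists_gen)
open scoped commutatorElement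

universe u

/-- A central extension with kernel in the commutator subgroup of a nonabelian simple group is quasisimple. -/
theorem quasisimple_of_quot {W : Type*} [Group W] (Z : Subgroup W) [Z.Normal] (hc : Z ≤ center W)
    (hd : Z ≤ commutator W) [IsSimpleGroup (W ⧸ Z)] (hna : ∃ p q : W ⧸ Z, p * q ≠ q * p) :
    Cfsg.IsQuasisimple W := by
  obtain ⟨p, q, hpq⟩ := hna
  have hmap : ∀ M : Subgroup W, M.Normal → (M.map (QuotientGroup.mk' Z) = ⊥ → False) → Z ≤ M → M = ⊤ := by
    intro M hM hne hZM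
    haveI : (M.map (QuotientGroup.mk' Z)).Normal := hM.map _ (QuotientGroup.mk'_surjective Z)
    have h := (IsSimpleGroup.eq_bot_or_eq_top_of_normal _ ‹_›).resolve_left hne
    have h2 := congrArg (Subgroup.comap (QuotientGroup.mk' Z)) h
    rwa [comap_map_eq, QuotientGroup.ker_mk', comap_top, sup_eq_left.2 hZM] at h2
  have hperf : commutator W = ⊤ := hmap _ inferInstance (fun e => by
    rw [_root_.commutator_def, map_commutator, map_top_of_surjective _ (QuotientGroup.mk'_surjective _),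
      ← _root_.commutator_def, commutator_eq_bot_iff_center_eq_top] at e
    exact hpq (mem_center_iff.1 (e ▸ mem_top q) p)) hd
  have hcen : center W = Z := by
    by_contra hne
    have htop : center W = ⊤ := hmap _ inferInstance (fun e => hne (le_antisymm (fun w hw => by
      have h := (e ▸ mem_map_of_mem (QuotientGroup.mk' Z) hw : QuotientGroup.mk' Z w ∈ (⊥ : Subgroup (W ⧸ Z)))
      exact (QuotientGroup.eq_one_iff w).1 (mem_bot.1 h)) hc)) hc
    obtain ⟨a, rfl⟩ := QuotientGroup.mk_surjective p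
    obtain ⟨b, rfl⟩ := QuotientGroup.mk_surjective q
    refine hpq ?_
    rw [← QuotientGroup.mk_mul, ← QuotientGroup.mk_mul, mem_center_iff.1 (htop ▸ mem_top b) a]
  exact ⟨Group.isPerfect_def.2 hperf, MulEquiv.isSimpleGroup (QuotientGroup.quotientMulEquivOfEq hcen)⟩

section

variable {G : Type u} [Group G] [Finite G] {Q Q' : Subgroup G} {z a : G} {S : St Q Q' z a}
variable {d : Gen S} (F : Five d) (hQ : Nat.card Q = 512)

include hQ in
/-- The statement for the standard element. -/
theorem std_cent (hrec : Recognition.{u}) :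
    Cfsg.IsQuasisimple ↥(centralizer ({F.g3} : Set G)) ∧ Cfsg.Spor.IsoSuz (Xq F) := by
  obtain ⟨eX⟩ := hrec _ (suzType F hQ)
  obtain ⟨hsimp, hcardX⟩ := Cfsg.Agent.S1694.result
  haveI := hsimp
  haveI : Nontrivial (Xq F) := eX.toEquiv.nontrivial
  haveI : IsSimpleGroup (Xq F) := eX.isSimpleGroup
  refine ⟨quasisimple_of_quot ((zpowers F.g3).subgroupOf _) (fun w hw => mem_center_iff.2 fun g => ?_)
    (fun w hw => ?_) ?_, ⟨eX⟩⟩
  · obtain ⟨i, hi⟩ := mem_zpowers_iff.1 (mem_subgroupOf.1 hw)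
    refine Subtype.ext ?_
    show (g : G) * w = w * g
    rw [← hi]
    exact ((show Commute (g : G) F.g3 from mem_centralizer_singleton_iff.1 g.2).zpow_right i).eq
  · obtain ⟨i, hi⟩ := mem_zpowers_iff.1 (mem_subgroupOf.1 hw)
    have h := zpow_mem (g3_mem F hQ hrec) i
    rw [hi] at h
    have he : (commutator ↥(centralizer ({F.g3} : Set G))).map (centralizer ({F.g3} : Set G)).subtype =
        ⁅centralizer ({F.g3} : Set G), centralizer ({F.g3} : Set G)⁆ := by
      rw [_root_.commutator_def, map_commutator, ← MonoidHom.range_eq_map, Subgroup.range_subtype]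
    rw [← he] at h
    obtain ⟨v, hv, e⟩ := h
    rwa [← Subtype.ext e]
  · by_contra! hab
    letI : CommGroup (Xq F) := { (inferInstance : Group (Xq F)) with mul_comm := hab }
    have hpr : (Nat.card (Xq F)).Prime := IsSimpleGroup.prime_card
    rw [Nat.card_congr eX.toEquiv, hcardX] at hpr
    norm_num at hpr

end

/-- The centralizer of an element of order three with nonabelian commutator of order eight in `Q`. -/
theorem three_cent (hrec : Recognition.{u}) {G : Type u} [Group G] [Finite G] (z : G) (hz : orderOf z = 2)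
    (Q : Subgroup (centralizer ({z} : Set G))) [Q.Normal]
    (hF : Cfsg.generalizedFittingSubgroup (centralizer ({z} : Set G)) = Q) (hQ : Cfsg.IsExtraspecial 2 Q)
    (hcard : Nat.card Q = 2 ^ 9)
    (e : (centralizer ({z} : Set G)) ⧸ Q ≃* Cfsg.Omega (ZMod 2) (Cfsg.quadFormPlus 4 (ZMod 2)))
    (hnwc : ∃ g : G, (∃ hq : g * z * g⁻¹ ∈ centralizer ({z} : Set G),
      (⟨g * z * g⁻¹, hq⟩ : centralizer ({z} : Set G)) ∈ Q) ∧ g * z * g⁻¹ ≠ z)
    (X : Subgroup (centralizer ({z} : Set G))) (hX : Nat.card X = 3) (hQX : Nat.card ↥⁅Q, X⁆ = 8)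
    (hQXna : ¬ IsMulCommutative ↥⁅Q, X⁆)
    [((X.map (Subgroup.subtype (centralizer ({z} : Set G)))).subgroupOf
      (centralizer ((X.map (Subgroup.subtype (centralizer ({z} : Set G)))) : Set G))).Normal] :
    Cfsg.IsQuasisimple ↥(centralizer ((X.map (Subgroup.subtype (centralizer ({z} : Set G)))) : Set G)) ∧
      Cfsg.Spor.IsoSuz (↥(centralizer ((X.map (Subgroup.subtype (centralizer ({z} : Set G)))) : Set G)) ⧸
        (X.map (Subgroup.subtype (centralizer ({z} : Set G)))).subgroupOf
          (centralizer ((X.map (Subgroup.subtype (centralizer ({z} : Set G)))) : Set G))) := by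
  classical
  set Q0 := Q.map (centralizer ({z} : Set G)).subtype with hQ0
  have hc0 : Nat.card ↥Q0 = 512 := by
    rw [hQ0, card_map_of_injective (centralizer ({z} : Set G)).subtype_injective, hcard]; norm_num
  have h : Ctr Q0 z := Ctr.of_fitting hz (map_subtype_le _) (by rw [hF])
    (isExtraspecial_of_equiv hQ (Q.equivMapOfInjective _ (centralizer ({z} : Set G)).subtype_injective))
  have heF : Cfsg.Omega (ZMod 2) (Cfsg.quadFormPlus 4 (ZMod 2)) ≃* ↥(Cfsg.Omega (ZMod 2) ⇑F8) := by
    rw [show F8 = Forms.PlusStd.plusQ (ZMod 2) 4 from rfl, Classical.OrthForms.plusQ_eq]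
  let π0 : ↥(centralizer ({z} : Set G)) →* ↥(Cfsg.Omega (ZMod 2) ⇑F8) :=
    heF.toMonoidHom.comp (e.toMonoidHom.comp (QuotientGroup.mk' Q))
  have hsurj : Function.Surjective π0 :=
    heF.surjective.comp (e.surjective.comp (QuotientGroup.mk'_surjective Q))
  have hker : ∀ c, π0 c = 1 ↔ (c : G) ∈ Q0 := fun c => by
    show heF (e (QuotientGroup.mk' Q c)) = 1 ↔ _
    rw [MulEquiv.map_eq_one_iff, MulEquiv.map_eq_one_iff]
    refine (QuotientGroup.eq_one_iff c).trans ⟨fun hc => ⟨c, hc, rfl⟩, ?_⟩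
    rintro ⟨d, hd, hdc⟩
    rwa [← Subtype.ext hdc]
  obtain ⟨g, ⟨hgC, hgQ⟩, hgz⟩ := hnwc
  have hgQ0 : g * z * g⁻¹ ∈ Q0 := ⟨_, hgQ, rfl⟩
  have P := (Pair.mk' h hgQ0 hgz).two (by omega)
  have ha1 : g * z * g⁻¹ ≠ 1 := fun e0 => h.ne_one (conj_eq_one_iff.1 e0)
  have haa : g * z * g⁻¹ * (g * z * g⁻¹) = 1 := by rw [conj_mul, h.zz, mul_one, mul_inv_cancel]
  obtain ⟨F0⟩ := frame_exists h hc0 π0 hsurj hker hgQ0 haa ha1 hgz
  let S : St Q0 _ z (g * z * g⁻¹) := ⟨P, F0⟩
  obtain ⟨d⟩ := exists_gen S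
  obtain ⟨F⟩ := exists_five d
  -- the generator of the given subgroup
  haveI : Fact (Nat.Prime 3) := ⟨Nat.prime_three⟩
  haveI : Nontrivial X := Finite.one_lt_card_iff_nontrivial.1 (by rw [hX]; norm_num)
  obtain ⟨⟨x, hxX⟩, hxne⟩ := exists_ne (1 : X)
  have hx1 : (x : G) ≠ 1 := fun e0 => hxne (Subtype.ext (Subtype.ext e0))
  have hx3 : (x : G) ^ 3 = 1 := by
    have h3 : (⟨x, hxX⟩ : X) ^ 3 = 1 := by
      have := pow_card_eq_one' (x := (⟨x, hxX⟩ : X))
      rwa [hX] at this
    exact congrArg (fun w : X => ((w : (centralizer ({z} : Set G))) : G)) h3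
  have hX0 : X.map (centralizer ({z} : Set G)).subtype = zpowers (x : G) := by
    have hle : zpowers (x : G) ≤ X.map (centralizer ({z} : Set G)).subtype := zpowers_le.2 ⟨x, hxX, rfl⟩
    refine (eq_of_le_of_card_ge hle ?_).symm
    rw [card_map_of_injective (centralizer ({z} : Set G)).subtype_injective, hX, Nat.card_zpowers, orderOf_eq_prime hx3 hx1]
  have hLQ : ⁅Q, X⁆ ≤ Q := commutator_le.2 fun q hq w _ => by
    rw [commutatorElement_def, mul_assoc, mul_assoc]
    exact Q.mul_mem hq (by rw [← mul_assoc]; exact (inferInstance : Q.Normal).conj_mem _ (Q.inv_mem hq) w)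
  obtain ⟨c, hcz, hc⟩ := to_std F hc0 hx3 hx1 (mem_centralizer_singleton_iff.1 x.2)
    (L := ⁅Q, X⁆.map (centralizer ({z} : Set G)).subtype) (map_mono hLQ) (by rw [card_map_of_injective (centralizer ({z} : Set G)).subtype_injective, hQX])
    (fun hab => hQXna ⟨⟨fun p q => Subtype.ext (Subtype.ext (by
      have h0 := congrArg Subtype.val
        (hab.is_comm.comm ⟨_, mem_map_of_mem (centralizer ({z} : Set G)).subtype p.2⟩ ⟨_, mem_map_of_mem (centralizer ({z} : Set G)).subtype q.2⟩)
      simpa using h0))⟩⟩)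
    (by
      rintro _ ⟨k, hk, rfl⟩
      refine ⟨⁅k, x⁆⁻¹, inv_mem (commutator_mem_commutator hk hxX), ?_⟩
      rw [commutatorElement_inv]
      rfl)
  -- conjugation
  set σ := MulAut.conj c with hσ
  have hzp : (zpowers (x : G)).map σ.toMonoidHom = zpowers F.g3 := by
    rw [MonoidHom.map_zpowers]
    show zpowers (c * x * c⁻¹) = _
    rcases hc with e0 | e0 <;> rw [e0]
    rw [zpowers_inv]
  have hcm : (centralizer ((X.map (centralizer ({z} : Set G)).subtype) : Set G)).map σ.toMonoidHom = centralizer ({F.g3} : Set G) := by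
    rw [← centralizer_map_conj, hX0, hzp]
    refine le_antisymm (centralizer_le (Set.singleton_subset_iff.2 (mem_zpowers _))) fun w hw => ?_
    refine mem_centralizer_iff.2 ?_
    rintro _ ⟨i, rfl⟩
    exact ((show Commute w F.g3 from mem_centralizer_singleton_iff.1 hw).zpow_right i).eq.symm
  let E : ↥(centralizer ((X.map (centralizer ({z} : Set G)).subtype) : Set G)) ≃* ↥(centralizer ({F.g3} : Set G)) :=
    ((centralizer ((X.map (centralizer ({z} : Set G)).subtype) : Set G)).equivMapOfInjective σ.toMonoidHom σ.injective).trans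
      (MulEquiv.subgroupCongr hcm)
  have hE : ∀ w, ((E w) : G) = σ (w : G) := fun w => rfl
  have hmap : ((X.map (centralizer ({z} : Set G)).subtype).subgroupOf _).map E.toMonoidHom = (zpowers F.g3).subgroupOf _ := by
    ext v
    rw [mem_subgroupOf, ← hzp]
    constructor
    · rintro ⟨w, hw, rfl⟩
      exact ⟨(w : G), hX0.le (mem_subgroupOf.1 hw), (hE w).symm⟩
    · rintro ⟨w, hw, hwe⟩
      refine ⟨E.symm v, mem_subgroupOf.2 (hX0.ge ?_), E.apply_symm_apply v⟩
      rwa [show ((E.symm v) : G) = w from σ.injective (by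
        rw [← hE, E.apply_symm_apply]; exact hwe.symm)]
  obtain ⟨hqs, ⟨eX⟩⟩ := std_cent F hc0 hrec
  exact ⟨Cfsg.Agent.Components.Basic.quasisimple_of_mulEquiv E.symm hqs,
    ⟨(QuotientGroup.congr _ _ E hmap).trans eX⟩⟩

end Cfsg.Agent.ConwayType.ThreeCent
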