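import Cfsg.Agent.Lib.ConwayType.ThreeCent.Space
import Cfsg.Agent.Lib.ConwayType.JTwo.Local
import Cfsg.Agent.Lib.SuzukiThree.Algebra

/-!
An element of order three acting on an elliptic line: conjugacy, its centralizer in `C(z)`.
-/

set_option autoImplicit false
set_option linter.all false
set_option maxRecDepth 20000

namespace Cfsg.Agent.ConwayType.ThreeCent

open Subgroup Cfsg.Agent.LargeExtra Cfsg.Agent.OctadInv.Orbits Cfsg.Agent.ConwayType.JTwo
open Cfsg.Agent.ConwayType.Octad (Gen)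

variable {G : Type*} [Group G] [Finite G] {Q Q' : Subgroup G} {z a : G} {S : St Q Q' z a}

/-- Two elements of order three with the same action are conjugate under `Q`. -/
theorem conj_same_act (S : St Q Q' z a) (hQ : Nat.card Q = 512) {b b' : G} (hb : b ^ 3 = 1) (hb' : b' ^ 3 = 1)
    (hbz : b * z = z * b) (hb'z : b' * z = z * b') (h : S.act' b = S.act' b') :
    ∃ q ∈ Q, q * b * q⁻¹ = b' := by
  refine SuzukiThree.conj_of_coset (by rw [hQ]; norm_num) (fun k hk => S.h.conj_mem hbz hk) hb hb' ?_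
  refine (S.act'_one_iff (mul_z hb'z (inv_z hbz))).1 ?_
  rw [S.act'_mul hb'z (inv_z hbz), S.act'_inv hbz, h, mul_inv_cancel]

theorem act'_conj (S : St Q Q' z a) {c b : G} (hc : c * z = z * c) (hb : b * z = z * b) :
    S.act' (c * b * c⁻¹) = S.act' c * S.act' b * (S.act' c)⁻¹ := by
  rw [S.act'_mul (mul_z hc hb) (inv_z hc), S.act'_mul hc hb, S.act'_inv hc]

/-- An isometry carrying the action of `b` to that of `b'` lifts to an element carrying `b` to `b'`. -/
theorem lift_conj (S : St Q Q' z a) (hQ : Nat.card Q = 512) {b b' : G} (hb : b ^ 3 = 1) (hb' : b' ^ 3 = 1)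
    (hbz : b * z = z * b) (hb'z : b' * z = z * b') {A : O8} (hA : A ∈ Cfsg.Omega (ZMod 2) ⇑F8)
    (h : A * S.act' b * A⁻¹ = S.act' b') :
    ∃ c, c * z = z * c ∧ S.act' c = A ∧ c * b * c⁻¹ = b' := by
  obtain ⟨⟨c₀, hc₀⟩, hcA⟩ := S.F.lift A hA
  have hc₀z := mem_centralizer_singleton_iff.1 hc₀
  have hA' : S.act' c₀ = A := by rw [S.act'_def hc₀z]; exact hcA
  obtain ⟨q, hq, e⟩ := conj_same_act S hQ (b := c₀ * b * c₀⁻¹) (b' := b')
    (by rw [conj_pow, hb, mul_one, mul_inv_cancel]) hb' (mul_z (mul_z hc₀z hbz) (inv_z hc₀z)) hb'z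
    (by rw [act'_conj S hc₀z hbz, hA', h])
  refine ⟨q * c₀, mul_z (S.qz hq) hc₀z, ?_, ?_⟩
  · rw [S.act'_mul (S.qz hq) hc₀z, S.act'_q hq, one_mul, hA']
  · rw [← e]; group

theorem act'_pow (S : St Q Q' z a) {x : G} (hx : x * z = z * x) (n : ℕ) : S.act' (x ^ n) = S.act' x ^ n := by
  induction n with
  | zero => rw [pow_zero, pow_zero, S.act'_q Q.one_mem]
  | succ n ih => rw [pow_succ, pow_succ, S.act'_mul ((show Commute x z from hx).pow_left n).eq hx, ih]

variable {d : Gen S} (F : Five d) (hQ : Nat.card Q = 512)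

theorem act_g3 : S.act' F.g3 = rot := F.act3

theorem g3_ne : F.g3 ≠ 1 := fun e => by
  have := F.order3
  rw [e, orderOf_one] at this
  norm_num at this

include F hQ in
set_option maxHeartbeats 2000000 in
/-- The elements of this type form one class up to inversion. -/
theorem to_std {x : G} (hx3 : x ^ 3 = 1) (hx1 : x ≠ 1) (hxz : x * z = z * x) {L : Subgroup G}
    (hLQ : L ≤ Q) (hL : Nat.card L = 8) (hna : ¬ IsMulCommutative L)
    (hcomm : ∀ k ∈ Q, x * k * x⁻¹ * k⁻¹ ∈ L) :
    ∃ c, c * z = z * c ∧ (c * x * c⁻¹ = F.g3 ∨ c * x * c⁻¹ = F.g3⁻¹) := by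
  classical
  obtain ⟨k, hk, k', hk', hne⟩ : ∃ k ∈ L, ∃ k' ∈ L, k * k' ≠ k' * k := by
    by_contra! h
    exact hna ⟨⟨fun u v => Subtype.ext (h u u.2 v v.2)⟩⟩
  have hkQ := hLQ hk
  have hk'Q := hLQ hk'
  have hbf : bf (S.F.vec k) (S.F.vec k') = 1 :=
    (z2 _).resolve_left fun e => hne ((S.comm_iff hkQ hk'Q).2 e)
  set v := S.F.vec k with hv
  set w := S.F.vec k' with hw
  have hzL : z ∈ L := by
    have h := S.F.comm hkQ hk'Q
    rw [← hv, ← hw, hbf, zp_one] at h
    rw [show z = k * k' * (k' * k)⁻¹ by rw [h, mul_inv_cancel_right]]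
    exact L.mul_mem (L.mul_mem hk hk') (L.inv_mem (L.mul_mem hk' hk))
  let f : ZMod 2 × ZMod 2 × ZMod 2 → G := fun p => zp z p.1 * (k ^ p.2.1.val * k' ^ p.2.2.val)
  have hfQ : ∀ p, f p ∈ Q ∧ S.F.vec (f p) = sm p.2.1 v + sm p.2.2 w := by
    have hpow : ∀ {u : G}, u ∈ Q → ∀ s : ZMod 2, S.F.vec (u ^ s.val) = sm s (S.F.vec u) := by
      intro u hu s
      rcases z2 s with rfl | rfl
      · rw [ZMod.val_zero, pow_zero, S.F.vec_one, sm_zero]
      · rw [show (1 : ZMod 2).val = 1 from rfl, pow_one, sm_one]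
    intro p
    refine ⟨Q.mul_mem (S.zp_mem _) (Q.mul_mem (Q.pow_mem hkQ _) (Q.pow_mem hk'Q _)), ?_⟩
    rw [S.F.vec_mul (S.zp_mem _) (Q.mul_mem (Q.pow_mem hkQ _) (Q.pow_mem hk'Q _)), S.vec_zp, zero_add,
      S.F.vec_mul (Q.pow_mem hkQ _) (Q.pow_mem hk'Q _), hpow hkQ, hpow hk'Q]
  have hindep : ∀ s t : ZMod 2, sm s v + sm t w = 0 → s = 0 ∧ t = 0 := by
    intro s t e
    have e1 := congrArg (fun u => bf u w) e
    have e2 := congrArg (fun u => bf v u) e
    simp only [bf_add_left, bf_sm_left, bf_self, bf_zero_left, hbf, bf_add_right, bf_sm_right, bf_zero_right,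
      mul_one, mul_zero, add_zero, zero_add] at e1 e2
    exact ⟨e1, e2⟩
  have hfinj : Function.Injective f := by
    rintro ⟨s, i, j⟩ ⟨s', i', j'⟩ e
    have e1 := congrArg S.F.vec e
    rw [(hfQ _).2, (hfQ _).2] at e1
    have e2 : sm (i + i') v + sm (j + j') w = 0 := by
      rw [add_sm, add_sm, add_add_add_comm]
      rw [show sm i v + sm j w = sm i' v + sm j' w from e1, add_self_V]
    obtain ⟨h1, h2⟩ := hindep _ _ e2
    obtain rfl : i = i' := CharTwo.add_eq_zero.1 h1
    obtain rfl : j = j' := CharTwo.add_eq_zero.1 h2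
    have e3 : zp z s = zp z s' := mul_right_cancel e
    rcases z2 s with rfl | rfl <;> rcases z2 s' with rfl | rfl
    · rfl
    · rw [zp_zero, zp_one] at e3; exact absurd e3.symm S.h.ne_one
    · rw [zp_zero, zp_one] at e3; exact absurd e3 S.h.ne_one
    · rfl
  have hfL : ∀ p, f p ∈ L := fun p =>
    L.mul_mem (L.pow_mem hzL _) (L.mul_mem (L.pow_mem hk _) (L.pow_mem hk' _))
  have hall : ∀ l ∈ L, S.F.vec l ∈ ([0, v, w, v + w] : List V) := by
    intro l hl
    have hb : Function.Bijective fun p => (⟨f p, hfL p⟩ : L) := by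
      refine (Nat.bijective_iff_injective_and_card _).2 ⟨fun p p' e => hfinj (congrArg Subtype.val e), ?_⟩
      simp [hL, Nat.card_prod]
    obtain ⟨⟨s, i, j⟩, hp⟩ := hb.2 ⟨l, hl⟩
    rw [← show f (s, i, j) = l from congrArg Subtype.val hp, (hfQ _).2]
    rcases z2 i with rfl | rfl <;> rcases z2 j with rfl | rfl <;> simp [sm_zero, sm_one]
  set A := S.act' x with hA
  have hA3 : A ^ 3 = 1 := by rw [hA, ← act'_pow S hxz, hx3, S.act'_q Q.one_mem]
  have hA1 : A ≠ 1 := fun e => hx1 (by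
    have hxQ := (S.act'_one_iff hxz).1 e
    have hd : orderOf x ∣ 512 := by
      have := orderOf_dvd_natCard (⟨x, hxQ⟩ : Q)
      rwa [hQ, Subgroup.orderOf_mk] at this
    have h3 := orderOf_dvd_of_pow_eq_one hx3
    have h1 := Nat.dvd_gcd hd h3
    norm_num at h1
    exact h1)
  have hline : ∀ u, act A u + u ∈ ([0, v, w, v + w] : List V) := by
    intro u
    obtain ⟨q, hq, rfl⟩ := S.F.surj u
    have h := hall _ (hcomm q hq)
    rwa [S.F.vec_mul (S.h.conj_mem hxz hq) (Q.inv_mem hq), S.vec_inv hq, S.vec_conj hxz hq] at h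
  have hvw0 : v ≠ 0 ∧ w ≠ 0 ∧ v + w ≠ 0 ∧ v ≠ w := by
    refine ⟨fun e => ?_, fun e => ?_, fun e => ?_, fun e => ?_⟩
    · rw [e, bf_zero_left] at hbf; exact zero_ne_one hbf
    · rw [e, bf_zero_right] at hbf; exact zero_ne_one hbf
    · rw [eq_of_add _ _ e, bf_self] at hbf; exact zero_ne_one hbf
    · rw [e, bf_self] at hbf; exact zero_ne_one hbf
  have hAinj : ∀ u u', act A u = act A u' → u = u' := fun u u' e => by
    have := congrArg (act A⁻¹) e
    rwa [act_inv_self, act_inv_self] at this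
  have hA3' : ∀ u, act A (act A (act A u)) = u := fun u => by
    rw [← act_mul, ← act_mul, show A * A * A = 1 by rw [← hA3]; simp [pow_succ], act_one]
  have himg : ∀ u, u ∈ ([0, v, w, v + w] : List V) → act A u ∈ ([0, v, w, v + w] : List V) := by
    intro u hu
    have h := hline u
    simp only [List.mem_cons, List.not_mem_nil, or_false] at hu h ⊢
    obtain ⟨e, he⟩ : ∃ e, act A u + u = e := ⟨_, rfl⟩
    rw [he] at h
    have hAu : act A u = e + u := by rw [← he, add_assoc, add_self_V, add_zero]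
    have s1 : v + (v + w) = w := by rw [← add_assoc, add_self_V, zero_add]
    have s2 : w + (v + w) = v := by rw [add_comm v w, ← add_assoc, add_self_V, zero_add]
    have s3 : v + w + v = w := by rw [add_comm, s1]
    have s4 : v + w + w = v := by rw [add_comm, s2]
    rcases h with rfl | rfl | rfl | rfl <;> rcases hu with rfl | rfl | rfl | rfl <;>
      simp [hAu, add_self_V, s1, s2, s3, s4, add_comm w v]
  have hfix : ∀ u, u ∈ ([v, w, v + w] : List V) → act A u ≠ u := by
    have hsum : ∀ {p p' : V}, act A p = p → act A p' = p' → (p = v ∧ p' = w) → False := by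
      intro p p' h1 h2 e
      obtain ⟨rfl, rfl⟩ := e
      refine hA1 (ext_act fun u => ?_)
      rw [act_one]
      have hfixall : ∀ y ∈ ([0, v, w, v + w] : List V), act A y = y := by
        intro y hy
        simp only [List.mem_cons, List.not_mem_nil, or_false] at hy
        rcases hy with rfl | rfl | rfl | rfl
        exacts [act_zero A, h1, h2, by rw [act_add, h1, h2]]
      obtain ⟨e, he⟩ : ∃ e, act A u + u = e := ⟨_, rfl⟩
      have hef := hfixall e (he ▸ hline u)
      have hAu : act A u = e + u := by rw [← he, add_assoc, add_self_V, add_zero]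
      have h4 := hA3' u
      rw [hAu, act_add, hef, hAu, act_add, act_add, hef, hAu, ← add_assoc e e, add_self_V, zero_add] at h4
      rw [hAu]; exact h4
    have hcyc : ∀ {p p' p'' : V}, act A p = p → p ≠ 0 → p ≠ p' → p ≠ p'' → p' ≠ p'' → p'' = p + p' →
        (act A p' ∈ ([0, p, p', p''] : List V)) → act A p' = p' := by
      intro p p' p'' hp p0 h1 h2 h3 hs hm
      simp only [List.mem_cons, List.not_mem_nil, or_false] at hm
      rcases hm with e | e | e | e
      · exfalso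
        have h := congrArg (act A) (congrArg (act A) e)
        rw [hA3', act_zero, act_zero] at h
        exact h2 (by rw [hs, h, add_zero])
      · exact absurd (hAinj _ _ (hp.trans e.symm)) h1
      · exact e
      · exfalso
        have h := hA3' p'
        rw [e, hs, act_add, hp, e, hs, ← add_assoc, add_self_V, zero_add, e, hs] at h
        exact h3 (hs.symm ▸ h.symm)
    obtain ⟨v0, w0', vw0, vw⟩ := hvw0
    have hvvw : v ≠ v + w := fun e => w0' (add_left_cancel (show v + w = v + 0 by rw [add_zero]; exact e.symm))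
    have hwvw : w ≠ v + w := fun e => v0 (add_right_cancel (show v + w = 0 + w by rw [zero_add]; exact e.symm))
    intro u hu e
    simp only [List.mem_cons, List.not_mem_nil, or_false] at hu
    rcases hu with rfl | rfl | rfl
    · exact hsum e (hcyc e v0 vw hvvw hwvw rfl (himg _ (by simp))) ⟨rfl, rfl⟩
    · refine hsum (hcyc e w0' vw.symm hwvw hvvw (add_comm v w) ?_) e ⟨rfl, rfl⟩
      have := himg v (by simp)
      simp only [List.mem_cons, List.not_mem_nil, or_false] at this ⊢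
      tauto
    · have hv' := hcyc (p' := v) (p'' := w) e vw0 hvvw.symm hwvw.symm vw
        (by rw [add_comm v w, add_assoc, add_self_V, add_zero]) (by
          have := himg v (by simp)
          simp only [List.mem_cons, List.not_mem_nil, or_false] at this ⊢
          tauto)
      rw [act_add, hv'] at e
      exact hsum hv' (add_left_cancel e) ⟨rfl, rfl⟩
  have hAv : act A v = w ∨ act A v = v + w := by
    have h := himg v (by simp)
    simp only [List.mem_cons, List.not_mem_nil, or_false] at h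
    rcases h with e | e | e | e
    · exact absurd (hAinj _ 0 (e.trans (act_zero A).symm)) hvw0.1
    · exact absurd e (hfix v (by simp))
    · exact Or.inl e
    · exact Or.inr e
  have hAw : (act A v = w ∧ act A w = v + w) ∨ (act A v = v + w ∧ act A w = v) := by
    have h := himg w (by simp)
    simp only [List.mem_cons, List.not_mem_nil, or_false] at h
    rcases h with e | e | e | e
    · exact absurd (hAinj _ 0 (e.trans (act_zero A).symm)) hvw0.2.1
    · rcases hAv with e' | e'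
      · exfalso
        have h := hA3' v
        rw [e', e, e'] at h
        exact hvw0.2.2.2 h.symm
      · exact Or.inr ⟨e', e⟩
    · exact absurd e (hfix w (by simp))
    · rcases hAv with e' | e'
      · exact Or.inl ⟨e', e⟩
      · exact absurd (hAinj _ _ (e'.trans e.symm)) hvw0.2.2.2
  have hq : qf v = 1 ∧ qf w = 1 := by
    have h1 : qf (v + w) = qf v + qf w + 1 := by rw [qf_add, hbf]
    rcases hAw with ⟨e1, e2⟩ | ⟨e1, e2⟩
    · have a1 := act_qf A v; have a2 := act_qf A w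
      rw [e1] at a1; rw [e2, h1, a1] at a2
      rcases z2 (qf v) with e | e <;> rw [e] at a1 a2 ⊢
      · exact absurd a2 (by decide)
      · exact ⟨rfl, a1⟩
    · have a1 := act_qf A v; have a2 := act_qf A w
      rw [e2] at a2; rw [e1, h1, a2] at a1
      rcases z2 (qf w) with e | e <;> rw [e] at a1 a2 ⊢
      · exact absurd a1 (by decide)
      · exact ⟨a2, rfl⟩
  have hmoves : (∃ u, act A u + u = v) ∧ ∃ u, act A u + u = w := by
    rcases hAw with ⟨e1, e2⟩ | ⟨e1, e2⟩
    · refine ⟨⟨w, by rw [e2, add_assoc, add_self_V, add_zero]⟩, ⟨v + w, ?_⟩⟩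
      rw [act_add, e1, e2]
      calc w + (v + w) + (v + w) = w + ((v + w) + (v + w)) := by abel
        _ = w := by rw [add_self_V, add_zero]
    · refine ⟨⟨v + w, ?_⟩, ⟨v, ?_⟩⟩
      · rw [act_add, e1, e2]
        calc v + w + v + (v + w) = (v + w) + (v + w) + v := by abel
          _ = v := by rw [add_self_V, zero_add]
      · rw [e1, add_comm v w, add_assoc, add_self_V, add_zero]
  obtain ⟨B, hB, hBA⟩ := conj_rot hA3 hq.1 hq.2 hbf (hfix v (by simp)) hline hmoves.1 hmoves.2
  rcases hBA with e | e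
  · obtain ⟨c, hc, -, hcx⟩ := lift_conj S hQ hx3 F.pow3 hxz F.g3z hB (by rw [← hA, act_g3, e])
    exact ⟨c, hc, Or.inl hcx⟩
  · obtain ⟨c, hc, -, hcx⟩ := lift_conj S hQ (b' := F.g3⁻¹) hx3 (by rw [inv_pow, F.pow3, inv_one]) hxz
      (inv_z F.g3z) hB (by rw [← hA, S.act'_inv F.g3z, act_g3, e])
    exact ⟨c, hc, Or.inr hcx⟩

/-! ### The centralizer in `C(z)` -/

/-- `C_Q(g3)`. -/
def Qw : Subgroup G := Q ⊓ centralizer ({F.g3} : Set G)

theorem comm_g3_iff {k : G} (hk : k ∈ Q) :
    k * F.g3 = F.g3 * k ↔ bf (S.F.vec k) r0 = 0 ∧ bf (S.F.vec k) r1 = 0 := by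
  constructor
  · intro h
    have hf : Tv pW (S.F.vec k) = S.F.vec k := by
      rw [← act_rot, ← act_g3 F, ← S.vec_conj F.g3z hk, ← h, mul_inv_cancel_right]
    have key : ∀ v : V, Tv pW v = v → bf v r0 = 0 ∧ bf v r1 = 0 := by decide +kernel
    exact key _ hf
  · intro h
    refine (comm_of_fix (S := S) hk F.g3z F.pow3 (by decide) ?_).symm
    rw [act_g3, act_rot, (rot_spec _).2.2.2.1 h.1 h.2]

theorem mem_Qw {k : G} : k ∈ Qw F ↔ k ∈ Q ∧ bf (S.F.vec k) r0 = 0 ∧ bf (S.F.vec k) r1 = 0 := by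
  rw [Qw, Subgroup.mem_inf, mem_centralizer_singleton_iff]
  exact and_congr_right fun hk => comm_g3_iff F hk

theorem lift_W (w : SuzukiType.V) : ∃ k ∈ Qw F, S.F.vec k = ψ w := by
  obtain ⟨k, hk, hkv⟩ := S.F.surj (ψ w)
  exact ⟨k, (mem_Qw F).2 ⟨hk, by rw [hkv]; exact (ψ_perp w).1, by rw [hkv]; exact (ψ_perp w).2⟩, hkv⟩

theorem card_Qw : Nat.card (Qw F) = 2 ^ 7 := by
  classical
  choose r hr hrv using lift_W F
  have hmem : ∀ p : ZMod 2 × SuzukiType.V, zp z p.1 * r p.2 ∈ Qw F := fun p =>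
    (Qw F).mul_mem ((Qw F).pow_mem (show z ∈ Qw F from (mem_Qw F).2 ⟨S.h.z_mem, by
      rw [S.F.vec_z]; exact ⟨bf_zero_left _, bf_zero_left _⟩⟩) _) (hr _)
  have hvec : ∀ p : ZMod 2 × SuzukiType.V, S.F.vec (zp z p.1 * r p.2) = ψ p.2 := fun p => by
    rw [S.F.vec_mul (S.zp_mem _) (hr _).1, S.vec_zp, hrv, zero_add]
  rw [← Nat.card_congr (Equiv.ofBijective (fun p : ZMod 2 × SuzukiType.V => (⟨_, hmem p⟩ : Qw F)) ⟨?_, ?_⟩)]
  · simp [Nat.card_prod]
  · rintro ⟨t, b⟩ ⟨t', b'⟩ e
    have e' : zp z t * r b = zp z t' * r b' := congrArg Subtype.val e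
    have hb : b = b' := by
      have := congrArg (fun u => θ (S.F.vec u)) e'
      simpa only [hvec (t, b), hvec (t', b'), θψ] using this
    subst hb
    have h1 : zp z t = zp z t' := mul_right_cancel e'
    rcases z2 t with rfl | rfl <;> rcases z2 t' with rfl | rfl
    · rfl
    · rw [zp_zero, zp_one] at h1; exact absurd h1.symm S.h.ne_one
    · rw [zp_zero, zp_one] at h1; exact absurd h1 S.h.ne_one
    · rfl
  · rintro ⟨k, hk⟩
    obtain ⟨hkQ, h0, h1⟩ := (mem_Qw F).1 hk
    set b := θ (S.F.vec k)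
    have h1' := Q.mul_mem hkQ (Q.inv_mem (hr b).1)
    have h0' : S.F.vec (k * (r b)⁻¹) = 0 := by
      rw [S.F.vec_mul hkQ (Q.inv_mem (hr _).1), S.vec_inv (hr _).1, hrv, ψθ _ h0 h1, add_self_V]
    rcases S.F.vec_cases h1' h0' with e | e
    · exact ⟨(0, b), Subtype.ext (by
        show zp z 0 * r b = k
        rw [zp_zero, one_mul]
        exact (mul_inv_eq_one.1 e).symm)⟩
    · exact ⟨(1, b), Subtype.ext (by
        show zp z 1 * r b = k
        rw [zp_one]
        exact (mul_inv_eq_iff_eq_mul.1 e).symm)⟩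

theorem extra_Qw : Cfsg.IsExtraspecial 2 ↥(Qw F) := by
  refine isExtraspecial_of_center_le S.h (fun k hk => hk.1) (fun x hx hc => ?_) ?_
  · obtain ⟨hxQ, h0, h1⟩ := (mem_Qw F).1 hx
    refine S.F.vec_cases hxQ ?_
    have key : ∀ v : V, bf v r0 = 0 → bf v r1 = 0 → (∀ w ∈ [e1, f1, pW 3, pW 4, k0, w0], bf w v = 0) → v = 0 := by
      decide +kernel
    refine key _ h0 h1 fun w hw => ?_
    obtain ⟨u, rfl⟩ : ∃ u, ψ u = w := by
      have hlist : ∀ w ∈ [e1, f1, pW 3, pW 4, k0, w0], bf w r0 = 0 ∧ bf w r1 = 0 := by decide +kernel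
      exact ⟨θ w, ψθ _ (hlist w hw).1 (hlist w hw).2⟩
    obtain ⟨k, hk, hkv⟩ := lift_W F u
    rw [← hkv]
    exact (S.comm_iff hk.1 hxQ).1 (hc k hk)
  · refine ⟨a, (mem_Qw F).2 ⟨S.mem_a, ?_⟩, fun e => ?_, fun e => S.P.p.ne e⟩
    · rw [S.F.vec_a]; decide +kernel
    · exact absurd (S.F.vec_a.symm.trans ((congrArg S.F.vec e).trans S.F.vec_one)) (by decide +kernel)

/-- `C(z) ∩ C(g3)`. -/
def cc : Subgroup G := centralizer ({z} : Set G) ⊓ centralizer ({F.g3} : Set G)

theorem mem_cc {c : G} : c ∈ cc F ↔ c * z = z * c ∧ c * F.g3 = F.g3 * c := by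
  rw [cc, Subgroup.mem_inf, mem_centralizer_singleton_iff, mem_centralizer_singleton_iff]

theorem act_cc (c : cc F) : ∃ (i : ℕ) (B : SuzukiType.O6), S.act' c = rot ^ i * ext6 B := by
  obtain ⟨hcz, hc3⟩ := (mem_cc F).1 c.2
  refine cent_rot ?_
  rw [← act_g3 F, ← S.act'_mul hcz F.g3z, ← S.act'_mul F.g3z hcz, hc3]

/-- The part on the complement. -/
noncomputable def six (c : cc F) : SuzukiType.O6 := (act_cc F c).choose_spec.choose

theorem six_spec (c : cc F) : ∃ i : ℕ, S.act' c = rot ^ i * ext6 (six F c) :=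
  ⟨_, (act_cc F c).choose_spec.choose_spec⟩

theorem six_act (c : cc F) (w : SuzukiType.V) : act (six F c) w = θ (act (S.act' c) (ψ w)) := by
  obtain ⟨i, hi⟩ := six_spec F c
  rw [hi, act_mul]
  have hrot : ∀ (n : ℕ) (v : V), θ (act (rot ^ n) v) = θ v := fun n v => by
    induction n with
    | zero => rw [pow_zero, act_one]
    | succ n ih => rw [pow_succ', act_mul, act_rot, (rot_spec _).1, ih]
  rw [hrot, act_ext6, θ_extFun, θψ]

/-- The part on the complement, as a homomorphism. -/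
noncomputable def sixHom : cc F →* SuzukiType.O6 := MonoidHom.mk' (six F) fun c c' => ext_act fun w => by
  obtain ⟨i, hi⟩ := six_spec F c'
  rw [act_mul, six_act, six_act F c, six_act F c', Subgroup.coe_mul,
    S.act'_mul ((mem_cc F).1 c.2).1 ((mem_cc F).1 c'.2).1, act_mul]
  have hfix : ∀ (n : ℕ) (u : SuzukiType.V), act (rot ^ n) (ψ u) = ψ u := fun n u => by
    induction n with
    | zero => rw [pow_zero, act_one]
    | succ n ih => rw [pow_succ', act_mul, ih, act_rot, (rot_spec _).2.2.2.1 (ψ_perp u).1 (ψ_perp u).2]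
  have hext : ∀ u : SuzukiType.V, act (ext6 (six F c')) (ψ u) = ψ (act (six F c') u) := fun u => by
    rw [act_ext6, extFun, θψ, add_self_V, zero_add]
  rw [hi, act_mul, hext, hfix, θψ]

theorem six_omega (c : cc F) : sixHom F c ∈ Cfsg.Omega (ZMod 2) ⇑SuzukiType.F6 := by
  obtain ⟨i, hi⟩ := six_spec F c
  refine (ext6_omega _).1 ?_
  have h := S.act'_omega (c : G)
  rw [hi] at h
  exact (Subgroup.mul_mem_cancel_left _ (pow_mem rot_mem i)).1 h

include hQ in
theorem six_surj {B : SuzukiType.O6} (hB : B ∈ Cfsg.Omega (ZMod 2) ⇑SuzukiType.F6) :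
    ∃ c, sixHom F c = B := by
  obtain ⟨c, hc, hcA, hc3⟩ := lift_conj S hQ F.pow3 F.pow3 F.g3z F.g3z ((ext6_omega B).2 hB)
    (by rw [act_g3, ← (rot_ext6 B).eq, mul_inv_cancel_right])
  let c' : cc F := ⟨c, (mem_cc F).2 ⟨hc, mul_inv_eq_iff_eq_mul.1 hc3⟩⟩
  refine ⟨c', ext_act fun w => ?_⟩
  show act (six F c') w = _
  rw [six_act, hcA, act_ext6, θ_extFun, θψ]

theorem six_ker (c : cc F) : sixHom F c = 1 ↔ ∃ q ∈ Qw F, ∃ i : ℕ, (c : G) = q * F.g3 ^ i := by
  obtain ⟨hcz, hc3⟩ := (mem_cc F).1 c.2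
  constructor
  · intro h
    obtain ⟨i, hi⟩ := six_spec F c
    rw [show six F c = 1 from h, map_one, mul_one] at hi
    have hgz : F.g3 ^ i * z = z * F.g3 ^ i := ((show Commute F.g3 z from F.g3z).pow_left i).eq
    have hq : (c : G) * (F.g3 ^ i)⁻¹ ∈ Q := by
      refine (S.act'_one_iff (mul_z hcz (inv_z hgz))).1 ?_
      rw [S.act'_mul hcz (inv_z hgz), S.act'_inv hgz, act'_pow S F.g3z, act_g3, hi, mul_inv_cancel]
    refine ⟨_, ⟨hq, mem_centralizer_singleton_iff.2 ?_⟩, i, by group⟩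
    exact ((show Commute (c : G) F.g3 from hc3).mul_left ((Commute.refl F.g3).pow_left i).inv_left).eq
  · rintro ⟨q, hq, i, e⟩
    refine ext_act fun w => ?_
    show act (six F c) w = _
    rw [six_act, e, S.act'_mul (S.qz hq.1) ((show Commute F.g3 z from F.g3z).pow_left i).eq, S.act'_q hq.1,
      one_mul, act'_pow S F.g3z, act_g3, act_one]
    have hrot : ∀ (n : ℕ) (v : V), θ (act (rot ^ n) v) = θ v := fun n v => by
      induction n with
      | zero => rw [pow_zero, act_one]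
      | succ n ih => rw [pow_succ', act_mul, act_rot, (rot_spec _).1, ih]
    rw [hrot, θψ]

end Cfsg.Agent.ConwayType.ThreeCent
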