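import Cfsg.Agent.Lib.ConwayType.ThreeCent.Quot
import Cfsg.Agent.S1694
import Cfsg.Agent.S5380

/-!
The centralizer of the element of order three does not split over it.
-/

set_option autoImplicit false
set_option linter.all false
set_option maxRecDepth 20000

namespace Cfsg.Agent.ConwayType.ThreeCent

open Subgroup Cfsg.Agent.LargeExtra Cfsg.Agent.OctadInv.Orbits Cfsg.Agent.ConwayType.JTwo
open Cfsg.Agent.ConwayType.Octad (Gen)
open scoped commutatorElement

universe u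

variable {G : Type u} [Group G] [Finite G] {Q Q' : Subgroup G} {z a : G} {S : St Q Q' z a}
variable {d : Gen S} (F : Five d) (hQ : Nat.card Q = 512)

/-- The second line. -/
def u0 : V := pU 0 + pU 1

/-- The second line. -/
def u1 : V := pU 1 + pU 2

theorem second_facts : bf u0 u1 = 1 ∧ bf u0 r0 = 0 ∧ bf u0 r1 = 0 ∧ bf u1 r0 = 0 ∧ bf u1 r1 = 0 ∧
    (∀ v : V, Tv pU v + v ∈ ([0, u0, u1, u0 + u1] : List V)) ∧ (∃ v, Tv pU v + v = u0 ∧ bf v r0 = 0 ∧ bf v r1 = 0) ∧
    (∃ v, Tv pU v + v = u1 ∧ bf v r0 = 0 ∧ bf v r1 = 0) ∧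
    ∃ r : V, qf r = 1 ∧ (∀ v, R r (Tv pU v) = Tv pU (R r v)) ∧ (∀ v, R r0 (Tv pU v) = Tv pU (R r0 v)) ∧
      ∀ v, R r0 (R r (Tv pW (R r (R r0 v)))) = Tv pW (Tv pW v) := by
  refine ⟨by decide +kernel, by decide +kernel, by decide +kernel, by decide +kernel, by decide +kernel,
    by decide +kernel, by decide +kernel, by decide +kernel, ?_⟩
  decide +kernel

/-- The subgroup of `Q` over the second line. -/
def L2 (S : St Q Q' z a) : Subgroup G where
  carrier := {k | k ∈ Q ∧ S.F.vec k ∈ ([0, u0, u1, u0 + u1] : List V)}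
  one_mem' := ⟨Q.one_mem, by rw [S.F.vec_one]; simp⟩
  mul_mem' := by
    rintro k l ⟨hk, hk'⟩ ⟨hl, hl'⟩
    refine ⟨Q.mul_mem hk hl, ?_⟩
    rw [S.F.vec_mul hk hl]
    have key : ∀ p ∈ ([0, u0, u1, u0 + u1] : List V), ∀ q ∈ ([0, u0, u1, u0 + u1] : List V),
        p + q ∈ ([0, u0, u1, u0 + u1] : List V) := by decide +kernel
    exact key _ hk' _ hl'
  inv_mem' := fun {k} h => ⟨Q.inv_mem h.1, by rw [S.vec_inv h.1]; exact h.2⟩

theorem mem_L2 (S : St Q Q' z a) {k : G} :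
    k ∈ L2 S ↔ k ∈ Q ∧ S.F.vec k ∈ ([0, u0, u1, u0 + u1] : List V) := Iff.rfl

theorem card_L2 (S : St Q Q' z a) : Nat.card (L2 S) = 8 := by
  classical
  choose r hr hrv using fun v => S.F.surj v
  have hm : ∀ p : ZMod 2 × ZMod 2 × ZMod 2, zp z p.1 * r (sm p.2.1 u0 + sm p.2.2 u1) ∈ L2 S := fun p => by
    refine (mem_L2 S).2 ⟨Q.mul_mem (S.zp_mem _) (hr _), ?_⟩
    rw [S.F.vec_mul (S.zp_mem _) (hr _), S.vec_zp, hrv, zero_add]
    rcases z2 p.2.1 with e | e <;> rcases z2 p.2.2 with e' | e' <;> rw [e, e'] <;> simp [sm_zero, sm_one]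
  rw [← Nat.card_congr (Equiv.ofBijective (fun p => (⟨_, hm p⟩ : L2 S)) ⟨?_, ?_⟩)]
  · simp [Nat.card_prod]
  · rintro ⟨t, i, j⟩ ⟨t', i', j'⟩ e
    have e' : zp z t * r (sm i u0 + sm j u1) = zp z t' * r (sm i' u0 + sm j' u1) := congrArg Subtype.val e
    have hb := congrArg S.F.vec e'
    rw [S.F.vec_mul (S.zp_mem _) (hr _), S.F.vec_mul (S.zp_mem _) (hr _), S.vec_zp, S.vec_zp, hrv, hrv,
      zero_add, zero_add] at hb
    have key : ∀ i j i' j' : ZMod 2, sm i u0 + sm j u1 = sm i' u0 + sm j' u1 → i = i' ∧ j = j' := by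
      decide +kernel
    obtain ⟨rfl, rfl⟩ := key _ _ _ _ hb
    have h1 : zp z t = zp z t' := mul_right_cancel e'
    rcases z2 t with rfl | rfl <;> rcases z2 t' with rfl | rfl
    · rfl
    · rw [zp_zero, zp_one] at h1; exact absurd h1.symm S.h.ne_one
    · rw [zp_zero, zp_one] at h1; exact absurd h1 S.h.ne_one
    · rfl
  · rintro ⟨k, hk⟩
    obtain ⟨hkQ, hv⟩ := (mem_L2 S).1 hk
    obtain ⟨i, j, hij⟩ : ∃ i j : ZMod 2, sm i u0 + sm j u1 = S.F.vec k := by
      simp only [List.mem_cons, List.not_mem_nil, or_false] at hv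
      rcases hv with e | e | e | e <;> rw [e]
      exacts [⟨0, 0, by simp [sm_zero]⟩, ⟨1, 0, by simp [sm_zero, sm_one]⟩, ⟨0, 1, by simp [sm_zero, sm_one]⟩,
        ⟨1, 1, by simp [sm_one]⟩]
    have h1 := Q.mul_mem hkQ (Q.inv_mem (hr (sm i u0 + sm j u1)))
    have h0 : S.F.vec (k * (r (sm i u0 + sm j u1))⁻¹) = 0 := by
      rw [S.F.vec_mul hkQ (Q.inv_mem (hr _)), S.vec_inv (hr _), hrv, hij, add_self_V]
    rcases S.F.vec_cases h1 h0 with e | e
    · exact ⟨(0, i, j), Subtype.ext (by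
        show zp z 0 * r _ = k
        rw [zp_zero, one_mul]
        exact (mul_inv_eq_one.1 e).symm)⟩
    · exact ⟨(1, i, j), Subtype.ext (by
        show zp z 1 * r _ = k
        rw [zp_one]
        exact (mul_inv_eq_iff_eq_mul.1 e).symm)⟩

theorem L2_le : L2 S ≤ Qw F := fun k hk => by
  obtain ⟨hkQ, hv⟩ := (mem_L2 S).1 hk
  have key : ∀ v ∈ ([0, u0, u1, u0 + u1] : List V), bf v r0 = 0 ∧ bf v r1 = 0 := by decide +kernel
  exact (mem_Qw F).2 ⟨hkQ, key _ hv⟩

theorem L2_not_comm (S : St Q Q' z a) : ∃ k ∈ L2 S, ∃ l ∈ L2 S, k * l ≠ l * k := by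
  obtain ⟨k, hk, hkv⟩ := S.F.surj u0
  obtain ⟨l, hl, hlv⟩ := S.F.surj u1
  refine ⟨k, ⟨hk, by rw [hkv]; simp⟩, l, ⟨hl, by rw [hlv]; simp⟩, fun e => ?_⟩
  have h := (S.comm_iff hk hl).1 e
  rw [hkv, hlv, second_facts.1] at h
  exact one_ne_zero h

include hQ in
/-- The second element of order three, and an element inverting the first and centralizing the second. -/
theorem exists_second : ∃ x n : G, x ^ 3 = 1 ∧ x ≠ 1 ∧ x * z = z * x ∧ x * F.g3 = F.g3 * x ∧ x ∉ zpowers F.g3 ∧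
    S.act' x = three pU ∧ n * z = z * n ∧ n * x = x * n ∧ n * F.g3 * n⁻¹ = F.g3⁻¹ := by
  have hmem : three pU ∈ Cfsg.Omega (ZMod 2) ⇑F8 := three_omega blockU
  have hcom : three pU * rot = rot * three pU := comm_blocks (three_blk blockU) (three_blk blockW)
  obtain ⟨c, hcz, hcA, hc3⟩ := lift_conj S hQ F.pow3 F.pow3 F.g3z F.g3z hmem
    (by rw [act_g3, hcom, mul_inv_cancel_right])
  have hA3 : (three pU) ^ 3 = 1 := three_pow_eq blockU
  have hc3' : c ^ 3 ∈ Q := (S.act'_one_iff ((show Commute c z from hcz).pow_left 3).eq).1 (by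
    rw [act'_pow S hcz, hcA, hA3])
  set x := c ^ 1024 with hx
  have hxz : x * z = z * x := ((show Commute c z from hcz).pow_left 1024).eq
  have hxA : S.act' x = three pU := by
    rw [hx, act'_pow S hcz, hcA, show 1024 = 3 * 341 + 1 by norm_num, pow_succ, pow_mul, hA3, one_pow, one_mul]
  have hxg : x * F.g3 = F.g3 * x :=
    ((show Commute c F.g3 from mul_inv_eq_iff_eq_mul.1 hc3).pow_left 1024).eq
  have hx3 : x ^ 3 = 1 := by
    have h := q_pow hQ hc3'
    rw [hx, ← pow_mul, show 1024 * 3 = 3 * 2 ^ 9 * 2 by norm_num, pow_mul, pow_mul, h, one_pow]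
  have hne : three pU ≠ 1 := three_ne blockU
  have hx1 : x ≠ 1 := fun e => hne (by rw [← hxA, e, S.act'_q Q.one_mem])
  obtain ⟨-, -, -, -, -, -, -, -, r, hr, hrU, hr0, hrW⟩ := second_facts
  set A := rfl' r0 * rfl' r with hA
  have hAmem : A ∈ Cfsg.Omega (ZMod 2) ⇑F8 := pair_mem r_facts.1 hr
  have hAact : ∀ v, act A v = R r0 (R r v) := fun v => by
    rw [hA, act_mul, act_rfl' r_facts.1, act_rfl' hr]
  have hAU : A * three pU * A⁻¹ = three pU := by
    rw [mul_inv_eq_iff_eq_mul]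
    refine ext_act fun v => ?_
    rw [hA, act_mul, act_mul, act_mul, act_mul, act_rfl' r_facts.1, act_rfl' r_facts.1, act_rfl' hr, act_rfl' hr, act_three blockU, act_three blockU, hrU, hr0]
  obtain ⟨m, hmz, hmA, hmx⟩ := lift_conj S hQ hx3 hx3 hxz hxz hAmem (by rw [hxA, hAU])
  have hAW : A * rot * A⁻¹ = rot⁻¹ := by
    have hinv : A⁻¹ = rfl' r * rfl' r0 := by
      rw [inv_eq_iff_mul_eq_one, hA, mul_assoc, ← mul_assoc (rfl' r), rfl'_sq, one_mul, rfl'_sq]
    have hrinv : rot⁻¹ = rot * rot := inv_eq_of_mul_eq_one_right (ext_act fun u => by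
      rw [act_mul, act_mul, act_rot, act_rot, act_rot, act_one]; exact (rot_spec u).2.2.2.2)
    refine ext_act fun v => ?_
    rw [hinv, hrinv, hA, act_mul, act_mul, act_mul, act_mul, act_rot, act_rfl' hr, act_rfl' hr, act_rfl' r_facts.1, act_rfl' r_facts.1, hrW, act_mul,
      act_rot, act_rot]
  have hmg : (m * F.g3 * m⁻¹) * z = z * (m * F.g3 * m⁻¹) := mul_z (mul_z hmz F.g3z) (inv_z hmz)
  have hmgx : Commute (m * F.g3 * m⁻¹) x := by
    have h1 : x = m * x * m⁻¹ := hmx.symm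
    show _ * x = x * _
    rw [h1]
    calc m * F.g3 * m⁻¹ * (m * x * m⁻¹) = m * (F.g3 * x) * m⁻¹ := by group
      _ = m * (x * F.g3) * m⁻¹ := by rw [hxg]
      _ = _ := by group
  set K := Q ⊓ centralizer ({x} : Set G) with hK
  have hgi : Commute F.g3⁻¹ x := (show Commute x F.g3 from hxg).symm.inv_left
  have hact : S.act' (F.g3⁻¹ * (m * F.g3 * m⁻¹)⁻¹) = 1 := by
    rw [S.act'_mul (inv_z F.g3z) (inv_z hmg), S.act'_inv hmg, S.act'_inv F.g3z, act'_conj S hmz F.g3z, hmA,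
      act_g3, hAW, mul_inv_cancel]
  obtain ⟨q, hq, hqe⟩ := SuzukiThree.conj_of_coset (K := K) (y := m * F.g3 * m⁻¹) (y' := F.g3⁻¹)
    (fun h3 => by
      have h := h3.trans (card_dvd_of_le (inf_le_left : K ≤ Q))
      rw [hQ] at h; norm_num at h)
    (fun k hk => ⟨S.h.conj_mem hmg hk.1, (centralizer ({x} : Set G)).mul_mem
      ((centralizer ({x} : Set G)).mul_mem (mem_centralizer_singleton_iff.2 hmgx.eq) hk.2)
      ((centralizer ({x} : Set G)).inv_mem (mem_centralizer_singleton_iff.2 hmgx.eq))⟩)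
    (by rw [conj_pow, F.pow3, mul_one, mul_inv_cancel]) (by rw [inv_pow, F.pow3, inv_one])
    ⟨(S.act'_one_iff (mul_z (inv_z F.g3z) (inv_z hmg))).1 hact,
      mem_centralizer_singleton_iff.2 (hgi.mul_left hmgx.inv_left).eq⟩
  refine ⟨x, q * m, hx3, hx1, hxz, hxg, ?_, hxA, mul_z (S.qz hq.1) hmz, ?_, ?_⟩
  · intro hmemz
    obtain ⟨i, hi⟩ := mem_zpowers_iff.1 hmemz
    have hxu : ∀ u : V, θ (act (S.act' x) u) = θ u := by
      have hi' : x = F.g3 ^ (i % 3).toNat := by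
        rw [← zpow_natCast, Int.toNat_of_nonneg (Int.emod_nonneg _ (by norm_num)), ← zpow_eq_zpow_emod i
          (by rw [show (3 : ℤ) = ((3 : ℕ) : ℤ) from rfl, zpow_natCast]; exact F.pow3), hi]
      intro u
      rw [hi', act'_pow S F.g3z, act_g3]
      generalize (i % 3).toNat = n
      induction n with
      | zero => rw [pow_zero, act_one]
      | succ n ih => rw [pow_succ', act_mul, act_rot, (rot_spec _).1, ih]
    have h := hxu e1
    rw [hxA, act_three blockU] at h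
    revert h
    decide +kernel
  · exact ((show Commute q x from mem_centralizer_singleton_iff.1 hq.2).mul_left
      (show Commute m x from mul_inv_eq_iff_eq_mul.1 hmx)).eq
  · rw [← hqe]; group

include hQ in
/-- `g3` lies in the commutator subgroup of its centralizer. -/
theorem g3_mem (hrec : Recognition.{u}) :
    F.g3 ∈ ⁅centralizer ({F.g3} : Set G), centralizer ({F.g3} : Set G)⁆ := by
  classical
  by_contra hg
  obtain ⟨x, n, hx3, hx1, hxz, hxg, hxnot, hxA, hnz, hnx, hng⟩ := exists_second F hQ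
  set W := centralizer ({F.g3} : Set G) with hW
  set DW : Subgroup G := ⁅W, W⁆ with hDW
  have hWx : ∀ {g : G}, g ∈ W ↔ g * F.g3 = F.g3 * g := mem_centralizer_singleton_iff
  have htriv : ∀ i : ℤ, F.g3 ^ i ∈ DW → F.g3 ^ i = 1 := by
    intro i hi
    have h3 : F.g3 ^ (3 : ℤ) = 1 := by rw [show (3 : ℤ) = ((3 : ℕ) : ℤ) from rfl, zpow_natCast, F.pow3]
    rw [zpow_eq_zpow_emod i h3] at hi ⊢
    rcases (by omega : i % 3 = 0 ∨ i % 3 = 1 ∨ i % 3 = 2) with e | e | e <;> rw [e] at hi ⊢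
    · exact zpow_zero _
    · exact absurd (by rwa [zpow_one] at hi) hg
    · exfalso
      refine hg ?_
      have : F.g3 = (F.g3 ^ (2 : ℤ))⁻¹ := by rw [eq_inv_iff_mul_eq_one, mul_self_zpow]; exact h3
      rw [this]
      exact inv_mem hi
  -- the quotient
  have hT := suzType F hQ
  obtain ⟨eX⟩ := hrec _ hT
  obtain ⟨hsimp, hcardX⟩ := Cfsg.Agent.S1694.result
  haveI := hsimp
  haveI : Nontrivial (Xq F) := eX.toEquiv.nontrivial
  haveI : IsSimpleGroup (Xq F) := eX.isSimpleGroup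
  let yW : ↥W := ⟨x, hWx.2 hxg⟩
  have hyz : (QuotientGroup.mk yW : Xq F) ∈ centralizer ({zq F} : Set (Xq F)) := by
    refine mem_centralizer_singleton_iff.2 ?_
    rw [zq, ← QuotientGroup.mk_mul, ← QuotientGroup.mk_mul]
    exact congrArg _ (Subtype.ext hxz)
  let xc : cc F := ⟨x, (mem_cc F).2 ⟨hxz, hxg⟩⟩
  haveI : Fintype (GaloisField 3 2) := Fintype.ofFinite _
  set Y := zpowers (proj F xc) with hY
  have hy1 : proj F xc ≠ 1 := fun e => hxnot ((proj_one F).1 e)
  have hy3 : proj F xc ^ 3 = 1 := by rw [← map_pow, show xc ^ 3 = 1 from Subtype.ext hx3, map_one]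
  have hYc : Nat.card Y = 3 := by
    haveI : Fact (Nat.Prime 3) := ⟨Nat.prime_three⟩
    rw [hY, Nat.card_zpowers, orderOf_eq_prime hy3 hy1]
  obtain ⟨hz2, Qt, hQtn, hF, hE, hcard, ⟨e6⟩, hnwc⟩ := hT
  have hQt : Qt = Qb F := by
    rw [← hF]
    haveI : IsSimpleGroup ↥(Cfsg.Omega (ZMod 2) ⇑SuzukiType.F6) := SuzukiType.omega_simple
    haveI : Fact (Nat.Prime 2) := ⟨Nat.prime_two⟩
    refine genFitting_simple (Qb F) ?_ (cent_Qb F hQ) six_nonabelian (quotSix F) ?_ (quotSix_ker F)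
    · refine IsPGroup.of_card (n := 7) ?_
      rw [Nat.card_congr (QbEquiv F hQ).toEquiv, card_Qw]
    · intro B
      obtain ⟨c, hc⟩ := toSix_surj F hQ B
      exact ⟨proj F c, by rw [quotSix_proj, hc]⟩
  set L' := ((L2 S).subgroupOf (cc F)).map (proj F) with hL'
  have hL2c : L2 S ≤ cc F := (L2_le F).trans (Qw_le F)
  have hxL : ∀ {k : G}, k ∈ Q → x * k * x⁻¹ * k⁻¹ ∈ L2 S := fun {k} hk => by
    refine (mem_L2 S).2 ⟨Q.mul_mem (S.h.conj_mem hxz hk) (Q.inv_mem hk), ?_⟩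
    rw [S.F.vec_mul (S.h.conj_mem hxz hk) (Q.inv_mem hk), S.vec_inv hk, S.vec_conj hxz hk, hxA,
      act_three blockU]
    exact second_facts.2.2.2.2.2.1 _
  have hpow : ∀ (j : ℕ) {k : G}, k ∈ Q → x ^ j * k * (x ^ j)⁻¹ * k⁻¹ ∈ L2 S := by
    intro j
    induction j with
    | zero => intro k hk; simp
    | succ j ih =>
      intro k hk
      have h1 := ih hk
      set l := x ^ j * k * (x ^ j)⁻¹ * k⁻¹ with hl
      have hxl : x * l * x⁻¹ ∈ L2 S := by
        have := (L2 S).mul_mem (hxL h1.1) h1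
        rwa [inv_mul_cancel_right] at this
      have e : x ^ (j + 1) * k * (x ^ (j + 1))⁻¹ * k⁻¹ = (x * l * x⁻¹) * (x * k * x⁻¹ * k⁻¹) := by
        rw [hl, pow_succ']; group
      rw [e]
      exact (L2 S).mul_mem hxl (hxL hk)
  have hcomm_eq : ⁅Qt, Y⁆ = L' := by
    rw [hQt]
    refine le_antisymm (commutator_le.2 ?_) ?_
    · rintro _ ⟨k, hk, rfl⟩ w hw
      obtain ⟨j, rfl⟩ : ∃ j : ℕ, (proj F xc) ^ j = w := by
        obtain ⟨i, hi⟩ := mem_zpowers_iff.1 hw
        refine ⟨(i % 3).toNat, ?_⟩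
        rw [← zpow_natCast, Int.toNat_of_nonneg (Int.emod_nonneg _ (by norm_num)), ← hi]
        exact (zpow_eq_zpow_emod i (by rw [show (3 : ℤ) = ((3 : ℕ) : ℤ) from rfl, zpow_natCast]; exact hy3)).symm
      rw [← map_pow, ← map_commutatorElement]
      refine mem_map_of_mem _ (mem_subgroupOf.2 ?_)
      have h := (L2 S).inv_mem (hpow j (mem_subgroupOf.1 hk).1)
      rw [show ((⁅k, xc ^ j⁆ : cc F) : G) = (x ^ j * (k : G) * (x ^ j)⁻¹ * (k : G)⁻¹)⁻¹ by
        simp only [commutatorElement_def, Subgroup.coe_mul, InvMemClass.coe_inv, SubmonoidClass.coe_pow]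
        group
        rfl]
      exact h
    · -- every element of the second subgroup is a product of commutators
      set C' := ((⁅Qb F, Y⁆).comap (proj F)).map (cc F).subtype with hC'
      have hgen : ∀ {v : V}, bf v r0 = 0 → bf v r1 = 0 → ∃ l ∈ C', l ∈ Q ∧ S.F.vec l = Tv pU v + v := by
        intro v h0 h1
        obtain ⟨k, hk, hkv⟩ := S.F.surj v
        have hkw : k ∈ Qw F := (mem_Qw F).2 ⟨hk, by rw [hkv]; exact ⟨h0, h1⟩⟩
        refine ⟨(x * k * x⁻¹ * k⁻¹)⁻¹, ⟨⁅(⟨k, Qw_le F hkw⟩ : cc F), xc⁆, ?_, ?_⟩, Q.inv_mem (hxL hk).1, ?_⟩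
        · show proj F ⁅(⟨k, Qw_le F hkw⟩ : cc F), xc⁆ ∈ ⁅Qb F, Y⁆
          rw [map_commutatorElement]
          exact commutator_mem_commutator ⟨_, hkw, rfl⟩ (mem_zpowers _)
        · show ((⁅(⟨k, Qw_le F hkw⟩ : cc F), xc⁆ : cc F) : G) = _
          simp only [commutatorElement_def, Subgroup.coe_mul, InvMemClass.coe_inv]
          group
          rfl
        · rw [S.vec_inv (hxL hk).1, S.F.vec_mul (S.h.conj_mem hxz hk) (Q.inv_mem hk), S.vec_inv hk,
            S.vec_conj hxz hk, hxA, act_three blockU, hkv]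
      obtain ⟨hb01, -, -, -, -, -, ⟨v0, hv0, hv00, hv01⟩, ⟨v1, hv1, hv10, hv11⟩, -⟩ := second_facts
      obtain ⟨l0, hl0, hl0Q, hl0v⟩ := hgen hv00 hv01
      obtain ⟨l1, hl1, hl1Q, hl1v⟩ := hgen hv10 hv11
      rw [hv0] at hl0v
      rw [hv1] at hl1v
      have hzC : z ∈ C' := by
        have h := S.F.comm hl0Q hl1Q
        rw [hl0v, hl1v, hb01, zp_one] at h
        rw [show z = l0 * l1 * (l1 * l0)⁻¹ by rw [h, mul_inv_cancel_right]]
        exact C'.mul_mem (C'.mul_mem hl0 hl1) (C'.inv_mem (C'.mul_mem hl1 hl0))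
      have hall : L2 S ≤ C' := by
        intro l hl
        obtain ⟨hlQ, hlv⟩ := (mem_L2 S).1 hl
        obtain ⟨b, hb, hbQ, hbv⟩ : ∃ b ∈ C', b ∈ Q ∧ S.F.vec b = S.F.vec l := by
          simp only [List.mem_cons, List.not_mem_nil, or_false] at hlv
          rcases hlv with e | e | e | e
          · exact ⟨1, one_mem _, Q.one_mem, by rw [S.F.vec_one, e]⟩
          · exact ⟨l0, hl0, hl0Q, by rw [hl0v, e]⟩
          · exact ⟨l1, hl1, hl1Q, by rw [hl1v, e]⟩
          · exact ⟨l0 * l1, C'.mul_mem hl0 hl1, Q.mul_mem hl0Q hl1Q, by rw [S.F.vec_mul hl0Q hl1Q, hl0v, hl1v, e]⟩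
        rcases S.F.vec_cases (Q.mul_mem hlQ (Q.inv_mem hbQ))
            (by rw [S.F.vec_mul hlQ (Q.inv_mem hbQ), S.vec_inv hbQ, hbv, add_self_V]) with e | e
        · rw [mul_inv_eq_one.1 e]; exact hb
        · rw [mul_inv_eq_iff_eq_mul.1 e]; exact C'.mul_mem hzC hb
      rintro _ ⟨l, hl, rfl⟩
      obtain ⟨l', hl', e⟩ := hall (mem_subgroupOf.1 hl)
      rw [show l = l' from Subtype.ext e.symm]
      exact hl'
  have hQY : Nat.card ↥⁅Qt, Y⁆ = 8 := by
    rw [hcomm_eq, hL']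
    have hinj : Set.InjOn (proj F) ((L2 S).subgroupOf (cc F) : Set (cc F)) := fun u hu v hv e =>
      proj_injQ F hQ (L2_le F hu) (L2_le F hv) e
    rw [← SetLike.coe_sort_coe, coe_map, Nat.card_image_of_injOn hinj]
    exact (Nat.card_congr (subgroupOfEquivOfLe hL2c).toEquiv).trans (card_L2 S)
  have hna : ¬ IsMulCommutative ↥⁅Qt, Y⁆ := by
    intro hc
    rw [hcomm_eq] at hc
    obtain ⟨k, hk, l, hl, hne⟩ := L2_not_comm S
    let kc : cc F := ⟨k, hL2c hk⟩
    let lc : cc F := ⟨l, hL2c hl⟩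
    have h := hc.is_comm.comm ⟨proj F kc, mem_map_of_mem _ (show kc ∈ (L2 S).subgroupOf (cc F) from hk)⟩
      ⟨proj F lc, mem_map_of_mem _ (show lc ∈ (L2 S).subgroupOf (cc F) from hl)⟩
    have h' : proj F (kc * lc) = proj F (lc * kc) := by
      rw [map_mul, map_mul]; exact congrArg Subtype.val h
    exact hne (congrArg Subtype.val (proj_injQ F hQ (L2_le F ((L2 S).mul_mem hk hl))
      (L2_le F ((L2 S).mul_mem hl hk)) h'))
  set CX := centralizer ({(QuotientGroup.mk yW : Xq F)} : Set (Xq F)) with hCX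
  haveI hnorm : ((Y.map (Subgroup.subtype (centralizer ({zq F} : Set (Xq F))))).subgroupOf
      (centralizer ((Y.map (Subgroup.subtype (centralizer ({zq F} : Set (Xq F))))) : Set (Xq F)))).Normal :=
    ⟨fun w hw g => by
      refine mem_subgroupOf.2 ?_
      have h := mem_centralizer_iff.1 g.2 _ (mem_subgroupOf.1 hw)
      rw [Subgroup.coe_mul, Subgroup.coe_mul, InvMemClass.coe_inv, ← h, mul_inv_cancel_right]
      exact mem_subgroupOf.1 hw⟩
  obtain ⟨hqs, -⟩ := @Cfsg.Agent.S5380.result (Xq F) _ _ (zq F) hz2 Qt hQtn hF hE hcard e6 hnwc Y hYc hQY hna hnorm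
    (GaloisField 3 2) _ _
    (by rw [← Nat.card_eq_fintype_card, GaloisField.card 3 2 (by norm_num)]; norm_num)
  have hYmap : Y.map (Subgroup.subtype (centralizer ({zq F} : Set (Xq F)))) = zpowers (QuotientGroup.mk yW : Xq F) := by
    rw [hY, MonoidHom.map_zpowers]; rfl
  have hCeq : centralizer ((Y.map (Subgroup.subtype (centralizer ({zq F} : Set (Xq F))))) : Set (Xq F)) = CX := by
    rw [hYmap]
    refine le_antisymm (centralizer_le (Set.singleton_subset_iff.2 (mem_zpowers _))) fun g hg => ?_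
    refine mem_centralizer_iff.2 ?_
    rintro _ ⟨i, rfl⟩
    exact ((show Commute g (QuotientGroup.mk yW : Xq F) from mem_centralizer_singleton_iff.1 hg).zpow_right i).eq.symm
  have hperf : ⁅CX, CX⁆ = CX := by
    have h := hqs.1
    rw [hCeq] at h
    have h' := congrArg (Subgroup.map CX.subtype) (Group.isPerfect_def.1 h)
    rwa [_root_.commutator_def, Subgroup.map_commutator, ← MonoidHom.range_eq_map, Subgroup.range_subtype] at h'
  -- the centralizer of both
  set C9 : Subgroup G := W ⊓ centralizer ({x} : Set G) with hC9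
  set D9 : Subgroup G := ⁅C9, C9⁆ with hD9
  have hD9W : D9 ≤ DW := commutator_mono inf_le_left inf_le_left
  have hx_mem : x ∈ W := hWx.2 hxg
  have hWim : (commutator ↥W).map (QuotientGroup.mk' ((zpowers F.g3).subgroupOf W)) = ⊤ := by
    have hXperf : commutator (Xq F) = ⊤ :=
      (IsSimpleGroup.eq_bot_or_eq_top_of_normal _ inferInstance).resolve_left fun e => by
        rw [_root_.commutator_eq_bot_iff_center_eq_top] at e
        have hab : ∀ p q : Xq F, p * q = q * p := fun p q => mem_center_iff.1 (e ▸ mem_top q) p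
        letI : CommGroup (Xq F) := { (inferInstance : Group (Xq F)) with mul_comm := hab }
        have hpr : (Nat.card (Xq F)).Prime := IsSimpleGroup.prime_card
        rw [Nat.card_congr eX.toEquiv, hcardX] at hpr
        norm_num at hpr
    rw [_root_.commutator_def, map_commutator, map_top_of_surjective _ (QuotientGroup.mk'_surjective _),
      ← _root_.commutator_def, hXperf]
  have hDWeq : (commutator ↥W).map W.subtype = DW := by
    rw [_root_.commutator_def, map_commutator, ← MonoidHom.range_eq_map, Subgroup.range_subtype]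
  obtain ⟨dd, hdd, j, hxd⟩ : ∃ dd ∈ DW, ∃ j : ℤ, x = dd * F.g3 ^ j := by
    obtain ⟨w, hw, hwe⟩ : (QuotientGroup.mk yW : Xq F) ∈ (commutator ↥W).map (QuotientGroup.mk' _) := hWim ▸ mem_top _
    obtain ⟨j, hj⟩ := mem_zpowers_iff.1 ((mk_eq_one F).1 (show (QuotientGroup.mk (w⁻¹ * yW) : Xq F) = 1 by
      rw [QuotientGroup.mk_mul, QuotientGroup.mk_inv, show (QuotientGroup.mk w : Xq F) = QuotientGroup.mk yW from hwe,
        inv_mul_cancel]))
    exact ⟨(w : G), hDWeq ▸ mem_map_of_mem _ hw, j, by rw [hj]; show x = (w : G) * ((w : G)⁻¹ * x); rw [mul_inv_cancel_left]⟩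
  have himg : CX ≤ (C9.subgroupOf W).map (QuotientGroup.mk' ((zpowers F.g3).subgroupOf W)) := by
    intro q hq
    induction q using QuotientGroup.induction_on with
    | _ g =>
    refine ⟨g, mem_subgroupOf.2 ⟨g.2, mem_centralizer_singleton_iff.2 ?_⟩, rfl⟩
    have h := mem_centralizer_singleton_iff.1 hq
    rw [← QuotientGroup.mk_mul, ← QuotientGroup.mk_mul, QuotientGroup.eq] at h
    obtain ⟨i, hi⟩ := mem_zpowers_iff.1 (mem_subgroupOf.1 h)
    have hgg : Commute (g : G) F.g3 := hWx.1 g.2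
    have hi' : F.g3 ^ i = x⁻¹ * (g : G)⁻¹ * x * g := by
      rw [hi]; show ((g : G) * x)⁻¹ * (x * g) = _; group
    have hmem : F.g3 ^ i ∈ DW := by
      have hxe : x⁻¹ * (g : G)⁻¹ * x * g = dd⁻¹ * ((g : G)⁻¹ * dd * g) := by
        rw [hxd]
        have hc : Commute (g : G)⁻¹ (F.g3 ^ j) := hgg.inv_left.zpow_right j
        calc (dd * F.g3 ^ j)⁻¹ * (g : G)⁻¹ * (dd * F.g3 ^ j) * g
            = (F.g3 ^ j)⁻¹ * (dd⁻¹ * ((g : G)⁻¹ * dd)) * (F.g3 ^ j * g) := by group
          _ = (F.g3 ^ j)⁻¹ * (dd⁻¹ * ((g : G)⁻¹ * dd)) * ((g : G) * F.g3 ^ j) := by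
              rw [((hgg.zpow_right j)).eq]
          _ = (F.g3 ^ j)⁻¹ * (dd⁻¹ * ((g : G)⁻¹ * dd * g)) * F.g3 ^ j := by group
          _ = dd⁻¹ * ((g : G)⁻¹ * dd * g) := by
              have hddW : dd ∈ W := (show DW ≤ W from commutator_le.2 fun p hp q hq => W.mul_mem (W.mul_mem (W.mul_mem hp hq) (W.inv_mem hp)) (W.inv_mem hq)) hdd
              have hall : Commute (F.g3 ^ j) (dd⁻¹ * ((g : G)⁻¹ * dd * g)) :=
                (((show Commute dd F.g3 from hWx.1 hddW).inv_left.mul_left ((hgg.inv_left.mul_left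
                  (hWx.1 hddW)).mul_left hgg)).zpow_right j).symm
              rw [mul_assoc, ← hall.eq, ← mul_assoc, inv_mul_cancel, one_mul]
      rw [hi', hxe]
      refine DW.mul_mem (DW.inv_mem hdd) ?_
      have hWg : W.map (MulAut.conj (g : G)⁻¹).toMonoidHom ≤ W := by
        rintro _ ⟨w, hw, rfl⟩
        exact W.mul_mem (W.mul_mem (W.inv_mem g.2) hw) (W.inv_mem (W.inv_mem g.2))
      have h1 := mem_map_of_mem (MulAut.conj (g : G)⁻¹).toMonoidHom hdd
      rw [hDW, map_commutator] at h1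
      have h2 := commutator_mono hWg hWg h1
      simpa using h2
    rw [htriv i hmem] at hi'
    calc (g : G) * x = (g : G) * x * (x⁻¹ * (g : G)⁻¹ * x * g) := by rw [← hi', mul_one]
      _ = x * g := by group
  obtain ⟨u, hu, i, hui⟩ : ∃ u ∈ D9, ∃ i : ℤ, u = x * F.g3 ^ i := by
    have hyC : (QuotientGroup.mk yW : Xq F) ∈ CX := mem_centralizer_singleton_iff.2 rfl
    have h2 := commutator_mono himg himg (hperf.symm ▸ hyC)
    rw [← map_commutator] at h2
    obtain ⟨w, hw, hwe⟩ := h2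
    have hwD : (w : G) ∈ D9 := by
      have h3 : (w : G) ∈ (⁅C9.subgroupOf W, C9.subgroupOf W⁆).map W.subtype := mem_map_of_mem _ hw
      rwa [map_commutator, map_subgroupOf_eq_of_le inf_le_left] at h3
    obtain ⟨i, hi⟩ := mem_zpowers_iff.1 ((mk_eq_one F).1 (show (QuotientGroup.mk (yW⁻¹ * w) : Xq F) = 1 by
      rw [QuotientGroup.mk_mul, QuotientGroup.mk_inv, show (QuotientGroup.mk w : Xq F) = QuotientGroup.mk yW from hwe,
        inv_mul_cancel]))
    exact ⟨w, hwD, i, by rw [hi]; show (w : G) = x * (x⁻¹ * (w : G)); rw [mul_inv_cancel_left]⟩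
  have hnu : n * u * n⁻¹ ∈ D9 := by
    have hn9 : C9.map (MulAut.conj n).toMonoidHom ≤ C9 := by
      rintro _ ⟨c, ⟨hc1, hc2⟩, rfl⟩
      have h1 : Commute c F.g3 := hWx.1 hc1
      have h2 : Commute c x := mem_centralizer_singleton_iff.1 hc2
      have hnc : ∀ {y : G}, Commute c y → Commute (n * c * n⁻¹) (n * y * n⁻¹) := fun {y} h => by
        show _ * _ = _ * _
        rw [conj_mul, conj_mul, h.eq]
      refine ⟨hWx.2 ?_, mem_centralizer_singleton_iff.2 ?_⟩
      · have := hnc h1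
        rw [hng] at this
        exact (inv_inv F.g3 ▸ this.inv_right).eq
      · have := hnc h2
        rw [hnx, mul_inv_cancel_right] at this
        exact this.eq
    have h := mem_map_of_mem (MulAut.conj n).toMonoidHom hu
    rw [hD9, map_commutator] at h
    exact commutator_mono hn9 hn9 h
  have hi1 : F.g3 ^ i = 1 := by
    have h2 : n * u * n⁻¹ = x * (F.g3 ^ i)⁻¹ := by
      rw [hui, ← conj_mul, show n * x * n⁻¹ = x by rw [hnx, mul_inv_cancel_right],
        show n * F.g3 ^ i * n⁻¹ = (n * F.g3 * n⁻¹) ^ i from (conj_zpow).symm, hng, inv_zpow]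
    have hmem : F.g3 ^ (i + i) ∈ DW := by
      have h3 := DW.mul_mem (DW.inv_mem (hD9W hnu)) (hD9W hu)
      rw [h2, hui] at h3
      rw [zpow_add]
      convert h3 using 1
      group
    have h4 := htriv _ hmem
    have h3 : F.g3 ^ (3 : ℤ) = 1 := by rw [show (3 : ℤ) = ((3 : ℕ) : ℤ) from rfl, zpow_natCast, F.pow3]
    calc F.g3 ^ i = F.g3 ^ ((3 : ℤ) * i) * (F.g3 ^ (i + i))⁻¹ := by rw [← zpow_sub]; ring_nf
      _ = 1 := by rw [h4, zpow_mul, h3, one_zpow, inv_one, one_mul]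
  rw [hi1, mul_one] at hui
  subst hui
  -- the second element is of the same type
  obtain ⟨c, hcz, hc⟩ := to_std F hQ hx3 hx1 hxz (L := L2 S) (fun k hk => hk.1) (card_L2 S)
    (fun hc => by
      obtain ⟨k, hk, l, hl, hne⟩ := L2_not_comm S
      exact hne (congrArg Subtype.val (hc.is_comm.comm ⟨k, hk⟩ ⟨l, hl⟩)))
    (fun k hk => hxL hk)
  have hcW : C9.map (MulAut.conj c).toMonoidHom ≤ W := by
    rintro _ ⟨b, ⟨-, hb⟩, rfl⟩
    refine hWx.2 ?_
    have h2 : Commute b u := mem_centralizer_singleton_iff.1 hb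
    have h3 : Commute (c * b * c⁻¹) (c * u * c⁻¹) := by
      show _ * _ = _ * _
      rw [conj_mul, conj_mul, h2.eq]
    rcases hc with e | e <;> rw [e] at h3
    · exact h3.eq
    · exact (inv_inv F.g3 ▸ h3.inv_right).eq
  have h := mem_map_of_mem (MulAut.conj c).toMonoidHom hu
  rw [hD9, map_commutator] at h
  have h' : c * u * c⁻¹ ∈ DW := commutator_mono hcW hcW h
  rcases hc with e | e <;> rw [e] at h'
  · exact hg h'
  · exact hg (inv_inv F.g3 ▸ DW.inv_mem h')

end Cfsg.Agent.ConwayType.ThreeCent
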