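import Cfsg.Agent.Lib.ConwayType.ThreeCent.Local
import Cfsg.Prelude.Def_Spor_Suz

/-!
The quotient of the centralizer of the element of order three is of Suzuki sporadic type.
-/

set_option autoImplicit false
set_option linter.all false
set_option maxRecDepth 20000

namespace Cfsg.Agent.ConwayType.ThreeCent

open Subgroup Cfsg.Agent.LargeExtra Cfsg.Agent.OctadInv.Orbits Cfsg.Agent.ConwayType.JTwo
open Cfsg.Agent.ConwayType.Octad (Gen)

universe u

/-- The hypotheses of Suzuki sporadic type at an involution. -/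
def SuzType (X : Type u) [Group X] (zb : X) : Prop :=
  orderOf zb = 2 ∧ ∃ (Qb : Subgroup (centralizer ({zb} : Set X))) (_ : Qb.Normal),
    Cfsg.generalizedFittingSubgroup (centralizer ({zb} : Set X)) = Qb ∧ Cfsg.IsExtraspecial 2 Qb ∧
    Nat.card Qb = 2 ^ 7 ∧
    Nonempty ((centralizer ({zb} : Set X)) ⧸ Qb ≃* Cfsg.Omega (ZMod 2) (Cfsg.quadFormMinus 2 (ZMod 2) 1 1)) ∧
    ∃ g : X, (∃ hq : g * zb * g⁻¹ ∈ centralizer ({zb} : Set X),
      (⟨g * zb * g⁻¹, hq⟩ : centralizer ({zb} : Set X)) ∈ Qb) ∧ g * zb * g⁻¹ ≠ zb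

/-- Recognition of the Suzuki group. -/
def Recognition : Prop :=
  ∀ {X : Type u} [Group X] [Finite X] (zb : X), SuzType X zb → Cfsg.Spor.IsoSuz X

/-- The subgroup `⟨x⟩` of `C(x)`. -/
instance zpowers_subgroupOf_normal {G : Type*} [Group G] (x : G) :
    ((zpowers x).subgroupOf (centralizer ({x} : Set G))).Normal := ⟨fun n hn g => by
  obtain ⟨i, hi⟩ := mem_zpowers_iff.1 (mem_subgroupOf.1 hn)
  have hg : Commute (g : G) x := mem_centralizer_singleton_iff.1 g.2
  refine mem_subgroupOf.2 (mem_zpowers_iff.2 ⟨i, ?_⟩)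
  rw [Subgroup.coe_mul, Subgroup.coe_mul, InvMemClass.coe_inv, ← hi, (hg.zpow_right i).eq, mul_inv_cancel_right]⟩

/-- The generalized Fitting subgroup of an extension of a self-centralizing `2`-group by a simple group. -/
theorem genFitting_simple {H : Type*} [Group H] [Finite H] (R : Subgroup H) [R.Normal] (hR : IsPGroup 2 R)
    (hC : centralizer (R : Set H) ≤ R) {P : Type*} [Group P] [IsSimpleGroup P] (hP : ∃ p q : P, p * q ≠ q * p)
    (f : H →* P) (hf : Function.Surjective f) (hker : f.ker = R) :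
    Cfsg.generalizedFittingSubgroup H = R := by
  haveI : Fact (Nat.Prime 2) := ⟨Nat.prime_two⟩
  haveI hnil : Group.IsNilpotent R := hR.isNilpotent
  have hlayer : Cfsg.layer H = ⊥ := by
    rw [Cfsg.Agent.Components.Basic.layer_eq_bot_iff]
    intro L hL
    have hs : Group.IsSolvable R := inferInstance
    have h0 := Cfsg.Agent.Components.Basic.component_commutator_eq_bot_of_isSolvable hL
      (inferInstance : R.Normal).isSubnormal hs
    exact Cfsg.Agent.Components.Basic.component_not_le_of_isSolvable hL hs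
      ((commutator_eq_bot_iff_le_centralizer.1 h0).trans hC)
  refine le_antisymm ?_ ((Cfsg.Agent.Components.Fitting.le_fitting hnil).trans le_sup_right)
  rw [Cfsg.generalizedFittingSubgroup, hlayer, bot_sup_eq, ← hker, ← Subgroup.map_eq_bot_iff]
  set F := Cfsg.fittingSubgroup H
  haveI : (F.map f).Normal := (inferInstance : F.Normal).map f hf
  rcases IsSimpleGroup.eq_bot_or_eq_top_of_normal (F.map f) inferInstance with e | e
  · exact e
  exfalso
  haveI : Group.IsNilpotent F := Cfsg.Agent.Components.Fitting.fitting_isNilpotent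
  haveI : Group.IsNilpotent P :=
    Group.nilpotent_of_surjective (f.comp F.subtype) fun y => by
      obtain ⟨x, hx, hxy⟩ := (e ▸ mem_top y : y ∈ F.map f)
      exact ⟨⟨x, hx⟩, hxy⟩
  obtain ⟨p, q, hpq⟩ := hP
  exact hpq ((IsSimpleGroup.comm_iff_isSolvable (G := P)).2 inferInstance p q)

theorem six_nonabelian : ∃ p q : Cfsg.Omega (ZMod 2) ⇑SuzukiType.F6, p * q ≠ q * p := by
  obtain ⟨q1, q2, q3, q4, h⟩ : SuzukiType.qf SuzukiType.k0 = 1 ∧ SuzukiType.qf SuzukiType.w0 = 1 ∧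
      SuzukiType.qf (SuzukiType.h1 + SuzukiType.h2) = 1 ∧ SuzukiType.qf (SuzukiType.e1 + SuzukiType.f1) = 1 ∧
      ∃ v, SuzukiType.R SuzukiType.k0 (SuzukiType.R SuzukiType.w0
          (SuzukiType.R SuzukiType.k0 (SuzukiType.R (SuzukiType.h1 + SuzukiType.h2) v))) ≠
        SuzukiType.R SuzukiType.k0 (SuzukiType.R (SuzukiType.h1 + SuzukiType.h2)
          (SuzukiType.R SuzukiType.k0 (SuzukiType.R SuzukiType.w0 v))) := by decide +kernel
  obtain ⟨v, hv⟩ := h
  refine ⟨⟨_, SuzukiType.pair_mem q1 q2⟩, ⟨_, SuzukiType.pair_mem q1 q3⟩, fun e => hv ?_⟩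
  have := congrArg (fun A : Cfsg.Omega (ZMod 2) ⇑SuzukiType.F6 => act (A : SuzukiType.O6) v) e
  simpa only [Subgroup.coe_mul, act_mul, SuzukiType.act_rfl' q1, SuzukiType.act_rfl' q2,
    SuzukiType.act_rfl' q3] using this

variable {G : Type u} [Group G] [Finite G] {Q Q' : Subgroup G} {z a : G} {S : St Q Q' z a}
variable {d : Gen S} (F : Five d) (hQ : Nat.card Q = 512)

/-- The quotient. -/
abbrev Xq : Type u := ↥(centralizer ({F.g3} : Set G)) ⧸ (zpowers F.g3).subgroupOf (centralizer ({F.g3} : Set G))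

/-- The image of `z`. -/
def zq : Xq F := QuotientGroup.mk ⟨z, mem_centralizer_singleton_iff.2 F.g3z.symm⟩

theorem mk_eq_one {g : ↥(centralizer ({F.g3} : Set G))} :
    (QuotientGroup.mk g : Xq F) = 1 ↔ (g : G) ∈ zpowers F.g3 :=
  (QuotientGroup.eq_one_iff g).trans mem_subgroupOf

/-- A power of `g3` which is a `2`-element is trivial. -/
theorem pow_trivial {x : G} (hx : x ∈ zpowers F.g3) {n : ℕ} (h2 : x ^ 2 ^ n = 1) : x = 1 := by
  have h3 : x ^ 3 = 1 := by
    obtain ⟨i, rfl⟩ := mem_zpowers_iff.1 hx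
    rw [← zpow_natCast, ← zpow_mul, mul_comm, zpow_mul, zpow_natCast, F.pow3, one_zpow]
  have h := Nat.dvd_gcd (orderOf_dvd_of_pow_eq_one h3) (orderOf_dvd_of_pow_eq_one h2)
  have hg : Nat.gcd 3 (2 ^ n) = 1 := Nat.Coprime.pow_right n (by norm_num)
  rw [hg, Nat.dvd_one, orderOf_eq_one_iff] at h
  exact h

include hQ in
theorem q_pow {x : G} (hx : x ∈ Q) : x ^ 2 ^ 9 = 1 := by
  have h := orderOf_dvd_natCard (⟨x, hx⟩ : Q)
  rw [hQ, Subgroup.orderOf_mk] at h
  exact orderOf_dvd_iff_pow_eq_one.1 (by norm_num; exact h)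

/-- The map from `C(z) ∩ C(g3)`. -/
noncomputable def proj : cc F →* ↥(centralizer ({zq F} : Set (Xq F))) :=
  ((QuotientGroup.mk' _).comp (Subgroup.inclusion (inf_le_right : cc F ≤ centralizer ({F.g3} : Set G)))).codRestrict _
    fun c => mem_centralizer_singleton_iff.2 (by
      show (QuotientGroup.mk _ : Xq F) * zq F = zq F * QuotientGroup.mk _
      rw [zq, ← QuotientGroup.mk_mul, ← QuotientGroup.mk_mul]
      exact congrArg _ (Subtype.ext ((mem_cc F).1 c.2).1))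

theorem proj_one {c : cc F} : proj F c = 1 ↔ (c : G) ∈ zpowers F.g3 := by
  rw [Subtype.ext_iff]
  exact mk_eq_one F

theorem proj_surj : Function.Surjective (proj F) := by
  rintro ⟨x, hx⟩
  induction x using QuotientGroup.induction_on with
  | _ g =>
  have hgz : (g : G) * z = z * g := by
    have h := mem_centralizer_singleton_iff.1 hx
    rw [zq, ← QuotientGroup.mk_mul, ← QuotientGroup.mk_mul, QuotientGroup.eq] at h
    have h' : ((g : G) * z)⁻¹ * (z * g) ∈ zpowers F.g3 := mem_subgroupOf.1 h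
    set u := (g : G) * z * (g : G)⁻¹ * z⁻¹ with hu
    have hgg : Commute (g : G) F.g3 := mem_centralizer_singleton_iff.1 g.2
    have hum : u ∈ zpowers F.g3 := by
      obtain ⟨i, hi⟩ := mem_zpowers_iff.1 h'
      refine mem_zpowers_iff.2 ⟨-i, ?_⟩
      have hc : Commute (z * (g : G)) (F.g3 ^ i) :=
        ((show Commute z F.g3 from F.g3z.symm).mul_left hgg).zpow_right i
      rw [hu, zpow_neg]
      calc (F.g3 ^ i)⁻¹ = z * g * (F.g3 ^ i)⁻¹ * (z * (g : G))⁻¹ := by rw [hc.inv_right.eq, mul_inv_cancel_right]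
        _ = _ := by rw [hi]; group
    have hcu : Commute u z := by
      obtain ⟨i, hi⟩ := mem_zpowers_iff.1 hum
      rw [← hi]
      exact (show Commute F.g3 z from F.g3z).zpow_left i
    have huz : u * z = (g : G) * z * (g : G)⁻¹ := by rw [hu, inv_mul_cancel_right]
    have h1 : u = 1 := pow_trivial F hum (n := 1) (by
      have e : (u * z) ^ 2 = 1 := by rw [huz, pow_two, conj_mul, S.h.zz, mul_one, mul_inv_cancel]
      rwa [hcu.mul_pow, pow_two z, S.h.zz, mul_one] at e)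
    rw [h1, one_mul] at huz
    exact mul_inv_eq_iff_eq_mul.1 huz.symm
  exact ⟨⟨g, (mem_cc F).2 ⟨hgz, mem_centralizer_singleton_iff.1 g.2⟩⟩, Subtype.ext rfl⟩

/-- The image of `C_Q(g3)`. -/
noncomputable def Qb : Subgroup ↥(centralizer ({zq F} : Set (Xq F))) := ((Qw F).subgroupOf (cc F)).map (proj F)

theorem Qw_le : Qw F ≤ cc F := fun k hk =>
  (mem_cc F).2 ⟨S.qz hk.1, mem_centralizer_singleton_iff.1 hk.2⟩

instance Qb_normal : (Qb F).Normal := by
  refine Subgroup.Normal.map ⟨fun k hk c => ?_⟩ _ (proj_surj F)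
  obtain ⟨hcz, hc3⟩ := (mem_cc F).1 c.2
  have hk' := mem_subgroupOf.1 hk
  refine mem_subgroupOf.2 ⟨S.h.conj_mem hcz hk'.1, ?_⟩
  exact (centralizer ({F.g3} : Set G)).mul_mem ((centralizer ({F.g3} : Set G)).mul_mem
    (mem_centralizer_singleton_iff.2 hc3) hk'.2) ((centralizer ({F.g3} : Set G)).inv_mem (mem_centralizer_singleton_iff.2 hc3))

include hQ in
theorem proj_injQ {u v : cc F} (hu : (u : G) ∈ Qw F) (hv : (v : G) ∈ Qw F) (h : proj F u = proj F v) : u = v := by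
  have h1 : (u : G)⁻¹ * v ∈ zpowers F.g3 := by
    have := (proj_one F (c := u⁻¹ * v)).1 (by rw [map_mul, map_inv, h, inv_mul_cancel])
    exact this
  exact inv_mul_eq_one.1 (Subtype.ext (pow_trivial F h1 (q_pow hQ (Q.mul_mem (Q.inv_mem hu.1) hv.1))))

include hQ in
/-- `C_Q(g3)` and its image. -/
noncomputable def QbEquiv : Qb F ≃* ↥(Qw F) :=
  ((subgroupOfEquivOfLe (Qw_le F)).symm.trans (MulEquiv.ofBijective
    (((proj F).comp ((Qw F).subgroupOf (cc F)).subtype).codRestrict (Qb F) fun k => ⟨_, k.2, rfl⟩)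
    ⟨fun u v e => Subtype.ext (proj_injQ F hQ (mem_subgroupOf.1 u.2) (mem_subgroupOf.1 v.2) (congrArg Subtype.val e)),
      fun x => by obtain ⟨k, hk, e⟩ := x.2; exact ⟨⟨k, hk⟩, Subtype.ext e⟩⟩)).symm

/-- The map onto the six-dimensional group. -/
noncomputable def toSix : cc F →* ↥(Cfsg.Omega (ZMod 2) ⇑SuzukiType.F6) :=
  (sixHom F).codRestrict _ (six_omega F)

theorem toSix_ker (c : cc F) : toSix F c = 1 ↔ ∃ q ∈ Qw F, ∃ i : ℕ, (c : G) = q * F.g3 ^ i := by
  rw [Subtype.ext_iff]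
  exact six_ker F c

theorem toSix_surj (hQ : Nat.card Q = 512) : Function.Surjective (toSix F) := fun B => by
  obtain ⟨c, hc⟩ := six_surj F hQ B.2
  exact ⟨c, Subtype.ext hc⟩

theorem proj_ker_le : (proj F).ker ≤ (toSix F).ker := fun c hc => by
  rw [MonoidHom.mem_ker] at hc ⊢
  obtain ⟨i, hi⟩ := mem_zpowers_iff.1 ((proj_one F).1 hc)
  refine (toSix_ker F c).2 ⟨1, (Qw F).one_mem, (i % 3).toNat, ?_⟩
  rw [one_mul, ← zpow_natCast, Int.toNat_of_nonneg (Int.emod_nonneg _ (by norm_num)), ← hi]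
  exact (zpow_eq_zpow_emod i (by rw [show (3 : ℤ) = ((3 : ℕ) : ℤ) from rfl, zpow_natCast]; exact F.pow3))

/-- The map of the centralizer of the involution. -/
noncomputable def quotSix : ↥(centralizer ({zq F} : Set (Xq F))) →* ↥(Cfsg.Omega (ZMod 2) ⇑SuzukiType.F6) :=
  (proj F).liftOfSurjective (proj_surj F) ⟨toSix F, proj_ker_le F⟩

theorem quotSix_proj (c : cc F) : quotSix F (proj F c) = toSix F c :=
  MonoidHom.liftOfRightInverse_comp_apply _ _ _ _ c

theorem quotSix_ker : (quotSix F).ker = Qb F := by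
  ext h
  obtain ⟨c, rfl⟩ := proj_surj F h
  rw [MonoidHom.mem_ker, quotSix_proj, toSix_ker]
  constructor
  · rintro ⟨q, hq, i, e⟩
    refine ⟨⟨q, Qw_le F hq⟩, hq, ?_⟩
    have hcq : c = ⟨q, Qw_le F hq⟩ * ⟨F.g3 ^ i, (mem_cc F).2
        ⟨((show Commute F.g3 z from F.g3z).pow_left i).eq, ((Commute.refl F.g3).pow_left i).eq⟩⟩ := Subtype.ext e
    have h3 : ∀ x : cc F, (x : G) = F.g3 ^ i → proj F x = 1 := fun x hx =>
      (proj_one F).2 (hx ▸ pow_mem (mem_zpowers _) i)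
    rw [hcq, map_mul, h3 ⟨F.g3 ^ i, _⟩ rfl, mul_one]
  · rintro ⟨q, hq, e⟩
    obtain ⟨i, hi⟩ := mem_zpowers_iff.1 ((proj_one F (c := q⁻¹ * c)).1 (by rw [map_mul, map_inv, e, inv_mul_cancel]))
    refine ⟨q, hq, (i % 3).toNat, ?_⟩
    rw [← zpow_natCast, Int.toNat_of_nonneg (Int.emod_nonneg _ (by norm_num)),
      ← zpow_eq_zpow_emod i (by rw [show (3 : ℤ) = ((3 : ℕ) : ℤ) from rfl, zpow_natCast]; exact F.pow3), hi,
      Subgroup.coe_mul, InvMemClass.coe_inv, mul_inv_cancel_left]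

include hQ in
theorem cent_Qb : centralizer (Qb F : Set ↥(centralizer ({zq F} : Set (Xq F)))) ≤ Qb F := by
  intro h hh
  obtain ⟨c, rfl⟩ := proj_surj F h
  rw [← quotSix_ker, MonoidHom.mem_ker, quotSix_proj]
  obtain ⟨hcz, hc3⟩ := (mem_cc F).1 c.2
  refine Subtype.ext (ext_act fun w => ?_)
  show act (six F c) w = _
  rw [six_act]
  obtain ⟨k, hk, hkv⟩ := lift_W F w
  have hconj : c * ⟨k, Qw_le F hk⟩ * c⁻¹ = (⟨k, Qw_le F hk⟩ : cc F) := by
    refine proj_injQ F hQ ?_ hk ?_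
    · show (c : G) * k * (c : G)⁻¹ ∈ Qw F
      exact ⟨S.h.conj_mem hcz hk.1, (centralizer ({F.g3} : Set G)).mul_mem ((centralizer ({F.g3} : Set G)).mul_mem
        (mem_centralizer_singleton_iff.2 hc3) hk.2) ((centralizer ({F.g3} : Set G)).inv_mem (mem_centralizer_singleton_iff.2 hc3))⟩
    · rw [map_mul, map_mul, map_inv, ← mem_centralizer_iff.1 hh _ ⟨_, hk, rfl⟩, mul_inv_cancel_right]
  have hkk : (c : G) * k * (c : G)⁻¹ = k := congrArg Subtype.val hconj
  have hv := S.vec_conj hcz hk.1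
  rw [hkk, hkv] at hv
  rw [← hv, θψ, OneMemClass.coe_one, act_one]

include hQ in
/-- The quotient is of Suzuki type. -/
theorem suzType : SuzType (Xq F) (zq F) := by
  classical
  haveI : Fact (Nat.Prime 2) := ⟨Nat.prime_two⟩
  have hzne : ∀ {g : ↥(centralizer ({F.g3} : Set G))} {n : ℕ}, (g : G) ≠ 1 → (g : G) ^ 2 ^ n = 1 →
      (QuotientGroup.mk g : Xq F) ≠ 1 := fun h1 h2 e => h1 (pow_trivial F ((mk_eq_one F).1 e) h2)
  refine ⟨orderOf_eq_prime ?_ (hzne (n := 1) S.h.ne_one (by rw [pow_one, pow_two]; exact S.h.zz)), Qb F,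
    inferInstance, ?_, ?_, ?_, ?_, ?_⟩
  · rw [pow_two, zq, ← QuotientGroup.mk_mul]
    exact (mk_eq_one F).2 (by
      show z * z ∈ _
      rw [S.h.zz]; exact one_mem _)
  · haveI : IsSimpleGroup ↥(Cfsg.Omega (ZMod 2) ⇑SuzukiType.F6) := SuzukiType.omega_simple
    refine genFitting_simple (Qb F) ?_ (cent_Qb F hQ) six_nonabelian (quotSix F) ?_ (quotSix_ker F)
    · refine IsPGroup.of_card (n := 7) ?_
      rw [Nat.card_congr (QbEquiv F hQ).toEquiv, card_Qw]
    · intro B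
      obtain ⟨c, hc⟩ := toSix_surj F hQ B
      exact ⟨proj F c, by rw [quotSix_proj, hc]⟩
  · exact isExtraspecial_of_equiv (extra_Qw F) (QbEquiv F hQ).symm
  · rw [Nat.card_congr (QbEquiv F hQ).toEquiv, card_Qw]
  · have hs : Function.Surjective (quotSix F) := fun B => by
      obtain ⟨c, hc⟩ := toSix_surj F hQ B
      exact ⟨proj F c, by rw [quotSix_proj, hc]⟩
    have heF : ↥(Cfsg.Omega (ZMod 2) ⇑SuzukiType.F6) ≃*
        Cfsg.Omega (ZMod 2) (Cfsg.quadFormMinus 2 (ZMod 2) 1 1) := by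
      rw [show SuzukiType.F6 = Classical.OrthForms.minQ (ZMod 2) 2 1 1 from rfl, Classical.OrthForms.minQ_eq]
    exact ⟨((QuotientGroup.quotientMulEquivOfEq (quotSix_ker F).symm).trans
      (QuotientGroup.quotientKerEquivOfSurjective _ hs)).trans heF⟩
  · have hsY : d.s * F.g3 = F.g3 * d.s := ((F.mem_Y.1 F.s_Y).2).symm
    have haw : a ∈ Qw F := by
      refine (mem_Qw F).2 ⟨S.mem_a, ?_⟩
      rw [S.F.vec_a]; decide +kernel
    refine ⟨QuotientGroup.mk ⟨d.s, mem_centralizer_singleton_iff.2 hsY⟩, ?_⟩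
    have he : (QuotientGroup.mk (⟨d.s, mem_centralizer_singleton_iff.2 hsY⟩ : ↥(centralizer ({F.g3} : Set G))) : Xq F) *
        zq F * (QuotientGroup.mk ⟨d.s, mem_centralizer_singleton_iff.2 hsY⟩)⁻¹ =
        (proj F ⟨a, Qw_le F haw⟩ : Xq F) := by
      show _ = QuotientGroup.mk _
      rw [zq, ← QuotientGroup.mk_inv, ← QuotientGroup.mk_mul, ← QuotientGroup.mk_mul]
      exact congrArg _ (Subtype.ext d.hs.hz)
    refine ⟨⟨he ▸ (proj F ⟨a, Qw_le F haw⟩).2, ⟨⟨a, Qw_le F haw⟩, haw, Subtype.ext he.symm⟩⟩, fun e => ?_⟩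
    rw [he] at e
    have h1 : (⟨a, Qw_le F haw⟩ : cc F) = ⟨z, (mem_cc F).2 ⟨rfl, F.g3z.symm⟩⟩ :=
      proj_injQ F hQ haw ((mem_Qw F).2 ⟨S.h.z_mem, by rw [S.F.vec_z]; exact ⟨bf_zero_left _, bf_zero_left _⟩⟩)
        (Subtype.ext e)
    exact S.P.p.ne (congrArg Subtype.val h1)

end Cfsg.Agent.ConwayType.ThreeCent
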