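import Cfsg.Agent.Lib.ConwayType.JTwo.Blocks
import Cfsg.Agent.Lib.SuzukiType.Isometry

/-!
An elliptic line in the eight-dimensional space of plus type and the six-dimensional space of minus type
orthogonal to it.
-/

set_option autoImplicit false
set_option linter.all false
set_option maxRecDepth 20000

namespace Cfsg.Agent.ConwayType.ThreeCent

open Cfsg.Agent.OctadInv.Orbits Cfsg.Agent.ConwayType.JTwo

/-- The first vector of the line. -/
def r0 : V := pW 0 + pW 1

/-- The second vector of the line. -/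
def r1 : V := pW 1 + pW 2

/-- The inclusion of the complement. -/
def ψ (v : SuzukiType.V) : V :=
  sm (SuzukiType.x1 v) e1 + sm (SuzukiType.y1 v) f1 + sm (SuzukiType.x2 v) (pW 3) + sm (SuzukiType.y2 v) (pW 4) +
    sm (SuzukiType.za v) k0 + sm (SuzukiType.zb v) w0

/-- The projection to the complement. -/
def θ (v : V) : SuzukiType.V :=
  SuzukiType.mk (bf v f1) (bf v e1) (bf v (pW 4)) (bf v (pW 3)) (bf v w0) (bf v k0)

theorem r_facts : qf r0 = 1 ∧ qf r1 = 1 ∧ bf r0 r1 = 1 ∧ r0 ≠ 0 ∧ r1 ≠ 0 ∧ r0 + r1 ≠ 0 ∧ θ r0 = 0 ∧ θ r1 = 0 ∧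
    qf k0 = 1 ∧ R k0 r0 = r0 ∧ R k0 r1 = r1 ∧ R r0 r0 = r0 ∧ r0 ≠ r1 ∧ bf k0 r0 = 0 ∧ bf k0 r1 = 0 := by
  decide +kernel

theorem θψ : ∀ w : SuzukiType.V, θ (ψ w) = w := by decide +kernel

theorem ψ_qf : ∀ w : SuzukiType.V, qf (ψ w) = SuzukiType.qf w := by decide +kernel

theorem ψ_perp : ∀ w : SuzukiType.V, bf (ψ w) r0 = 0 ∧ bf (ψ w) r1 = 0 := by decide +kernel

theorem ψθ : ∀ v : V, bf v r0 = 0 → bf v r1 = 0 → ψ (θ v) = v := by decide +kernel

theorem rest : ∀ v : V, v + ψ (θ v) = sm (bf v r1) r0 + sm (bf v r0) r1 := by decide +kernel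

theorem qf_split : ∀ (s t : ZMod 2) (w : SuzukiType.V),
    qf (sm s r0 + sm t r1 + ψ w) = qf (sm s r0 + sm t r1) + SuzukiType.qf w := by decide +kernel

theorem line_cases : ∀ v : V, θ v = 0 → v = 0 ∨ v = r0 ∨ v = r1 ∨ v = r0 + r1 := by decide +kernel

theorem step_one : ∀ v : V, qf v = 1 → v = r0 ∨ bf v r0 = 1 ∨
    ∃ u : V, qf u = 1 ∧ bf v u = 1 ∧ bf u r0 = 1 := by decide +kernel

theorem step_two : ∀ w : V, qf w = 1 → bf w r0 = 1 → w = r1 ∨ bf w r1 = 1 ∨
    ∃ u : V, qf u = 1 ∧ bf u r0 = 1 ∧ bf w u = 1 ∧ bf u r1 = 1 := by decide +kernel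

/-- The reflection exchanging two vectors. -/
theorem R_move {u v : V} (hu : qf u = 1) (hv : qf v = 1) (h : bf u v = 1) :
    qf (u + v) = 1 ∧ R (u + v) u = v ∧ ∀ c, bf c u = bf c v → R (u + v) c = c := by
  refine ⟨by rw [qf_add, hu, hv, h]; decide, ?_, fun c hc => ?_⟩
  · rw [R, bf_add_left, bf_self, zero_add, bf_comm, h, sm_one, ← add_assoc, add_self_V, zero_add]
  · rw [R, bf_add_left, bf_comm u c, bf_comm v c, hc, CharTwo.add_self_eq_zero, sm_zero, add_zero]

theorem line_isometry {v w : V} (hv : qf v = 1) (hw : qf w = 1) (h : bf v w = 1) :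
    ∃ A ∈ Cfsg.Omega (ZMod 2) ⇑F8, act A v = r0 ∧ act A w = r1 := by
  obtain ⟨q0, q1, b01, -, -, -, -, -, qk, k0r, k1r, -⟩ := r_facts
  obtain ⟨A, hA⟩ : ∃ A : O8, act A v = r0 := by
    rcases step_one v hv with rfl | h0 | ⟨u, hu, h1, h2⟩
    · exact ⟨1, act_one _⟩
    · obtain ⟨hq, hR, -⟩ := R_move hv q0 h0
      exact ⟨rfl' (v + r0), by rw [act_rfl' hq, hR]⟩
    · obtain ⟨hq, hR, -⟩ := R_move hv hu h1
      obtain ⟨hq', hR', -⟩ := R_move hu q0 h2
      exact ⟨rfl' (u + r0) * rfl' (v + u), by rw [act_mul, act_rfl' hq, hR, act_rfl' hq', hR']⟩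
  have hw' : qf (act A w) = 1 := by rw [act_qf, hw]
  have hb : bf (act A w) r0 = 1 := by rw [← hA, act_bf, bf_comm, h]
  obtain ⟨B, hB0, hB1⟩ : ∃ B : O8, act B r0 = r0 ∧ act B (act A w) = r1 := by
    rcases step_two _ hw' hb with e | h0 | ⟨u, hu, h1, h2, h3⟩
    · exact ⟨1, act_one _, by rw [act_one, e]⟩
    · obtain ⟨hq, hR, hfix⟩ := R_move hw' q1 h0
      exact ⟨rfl' (act A w + r1), by rw [act_rfl' hq, hfix _ (by rw [bf_comm, hb, b01])],
        by rw [act_rfl' hq, hR]⟩
    · obtain ⟨hq, hR, hfix⟩ := R_move hw' hu h2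
      obtain ⟨hq', hR', hfix'⟩ := R_move hu q1 h3
      exact ⟨rfl' (u + r1) * rfl' (act A w + u),
        by rw [act_mul, act_rfl' hq, hfix _ (by rw [bf_comm, hb, bf_comm, h1]), act_rfl' hq',
          hfix' _ (by rw [bf_comm, h1, b01])],
        by rw [act_mul, act_rfl' hq, hR, act_rfl' hq', hR']⟩
  by_cases hm : B * A ∈ Cfsg.Omega (ZMod 2) ⇑F8
  · exact ⟨_, hm, by rw [act_mul, hA, hB0], by rw [act_mul, hB1]⟩
  · refine ⟨rfl' k0 * (B * A), ?_, by rw [act_mul, act_mul, hA, hB0, act_rfl' qk, k0r],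
      by rw [act_mul, act_mul, hB1, act_rfl' qk, k1r]⟩
    rw [Subgroup.mul_mem_iff_of_index_two omega_index]
    exact iff_of_false (rfl'_notMem qk) hm

/-- The rotation of the line. -/
noncomputable def rot : O8 := three pW

theorem act_rot (v : V) : act rot v = Tv pW v := act_three blockW v

theorem rot_mem : rot ∈ Cfsg.Omega (ZMod 2) ⇑F8 := three_omega blockW

theorem rot_facts : Tv pW r0 = r1 ∨ Tv pW r0 = r0 + r1 := by decide +kernel

theorem rot_spec : ∀ v : V, θ (Tv pW v) = θ v ∧ (θ v = 0 → Tv pW v = v → v = 0) ∧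
    Tv pW v + v ∈ ([0, r0, r1, r0 + r1] : List V) ∧ (bf v r0 = 0 → bf v r1 = 0 → Tv pW v = v) ∧
    Tv pW (Tv pW (Tv pW v)) = v := by decide +kernel

theorem act_θ {A : O8} (h0 : act A r0 = r0) (h1 : act A r1 = r1) (w : SuzukiType.V) :
    ψ (θ (act A (ψ w))) = act A (ψ w) := by
  refine ψθ _ ?_ ?_
  · conv_lhs => rw [← h0, act_bf]
    exact (ψ_perp w).1
  · conv_lhs => rw [← h1, act_bf]
    exact (ψ_perp w).2

theorem ψ_add : ∀ v w : SuzukiType.V, ψ (v + w) = ψ v + ψ w := fun v w => by
  simp only [ψ, SuzukiType.x1_add, SuzukiType.y1_add, SuzukiType.x2_add, SuzukiType.y2_add, SuzukiType.za_add,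
    SuzukiType.zb_add, add_sm]
  abel

theorem θ_add (v w : V) : θ (v + w) = θ v + θ w := by
  simp only [θ, bf_add_left]
  funext i
  rcases i with (i | i) | i <;> fin_cases i <;> rfl

/-- The extension of an isometry of the complement, as a map. -/
noncomputable def extFun (A : SuzukiType.O6) (v : V) : V := v + ψ (θ v) + ψ (act A (θ v))

theorem extFun_split (A : SuzukiType.O6) (v : V) :
    extFun A v = sm (bf v r1) r0 + sm (bf v r0) r1 + ψ (act A (θ v)) := by
  rw [extFun, rest]

theorem θ_extFun (A : SuzukiType.O6) (v : V) : θ (extFun A v) = act A (θ v) := by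
  rw [extFun, θ_add, θ_add, θψ, θψ, SuzukiType.add_self_V, zero_add]

theorem extFun_mul (A B : SuzukiType.O6) (v : V) : extFun A (extFun B v) = extFun (A * B) v := by
  rw [extFun, θ_extFun, extFun, extFun, act_mul]
  rw [add_assoc _ (ψ (act B (θ v))) (ψ (act B (θ v))), add_self_V, add_zero]

theorem extFun_one (v : V) : extFun 1 v = v := by
  rw [extFun, act_one, add_assoc, add_self_V, add_zero]

theorem extFun_add (A : SuzukiType.O6) (v w : V) : extFun A (v + w) = extFun A v + extFun A w := by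
  simp only [extFun, θ_add, ψ_add, act_add]
  abel

theorem extFun_qf (A : SuzukiType.O6) (v : V) : qf (extFun A v) = qf v := by
  rw [extFun_split, qf_split, SuzukiType.act_qf, ← qf_split, ← rest, add_assoc, add_self_V, add_zero]

/-- The extension of an isometry, as a linear map. -/
noncomputable def extLin (A : SuzukiType.O6) : V ≃ₗ[ZMod 2] V where
  toFun := extFun A
  invFun := extFun A⁻¹
  map_add' := extFun_add A
  map_smul' := fun t v => by
    rcases z2 t with rfl | rfl
    · simp only [zero_smul, RingHom.id_apply]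
      have h := extFun_add A 0 0
      rw [add_zero] at h
      exact add_left_cancel (h.symm.trans (add_zero _).symm)
    · simp
  left_inv v := by rw [extFun_mul, inv_mul_cancel, extFun_one]
  right_inv v := by rw [extFun_mul, mul_inv_cancel, extFun_one]

/-- The extension. -/
noncomputable def ext6 : SuzukiType.O6 →* O8 where
  toFun A := Forms.QuadStd.isoOfEquiv ⇑F8 (extLin A) fun v => by
    rw [F_apply, F_apply]; exact extFun_qf A v
  map_one' := ext_act fun v => by
    show Matrix.mulVec _ v = _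
    rw [Forms.QuadStd.isoOfEquiv_mulVec, act_one]
    exact extFun_one v
  map_mul' A B := ext_act fun v => by
    rw [act_mul]
    show Matrix.mulVec _ v = Matrix.mulVec _ (Matrix.mulVec _ v)
    rw [Forms.QuadStd.isoOfEquiv_mulVec, Forms.QuadStd.isoOfEquiv_mulVec, Forms.QuadStd.isoOfEquiv_mulVec]
    exact (extFun_mul A B v).symm

theorem act_ext6 (A : SuzukiType.O6) (v : V) : act (ext6 A) v = extFun A v :=
  Forms.QuadStd.isoOfEquiv_mulVec ⇑F8 (extLin A) (fun u => by rw [F_apply, F_apply]; exact extFun_qf A u) v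

theorem ext6_rfl {r : SuzukiType.V} (hr : SuzukiType.qf r = 1) :
    ext6 (SuzukiType.rfl' r) = rfl' (ψ r) := by
  refine ext_act fun v => ?_
  rw [act_ext6, act_rfl' (by rw [ψ_qf, hr]), extFun, SuzukiType.act_rfl' hr, SuzukiType.R, ψ_add]
  have hb : bf (ψ r) v = SuzukiType.bf r (θ v) := by
    have h := qf_split (bf v r1) (bf v r0) (θ v + r)
    have h' := qf_split (bf v r1) (bf v r0) (θ v)
    rw [ψ_add, ← rest, ← add_assoc, add_assoc v, add_self_V, add_zero, qf_add, SuzukiType.qf_add, ψ_qf,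
      bf_comm] at h
    rw [← rest, add_assoc, add_self_V, add_zero] at h'
    rw [SuzukiType.bf_comm]
    linear_combination h - h'
  have hsm : ψ (SuzukiType.sm (SuzukiType.bf r (θ v)) r) = sm (SuzukiType.bf r (θ v)) (ψ r) := by
    rcases z2 (SuzukiType.bf r (θ v)) with e | e <;> rw [e]
    · rw [SuzukiType.sm_zero, sm_zero]; decide +kernel
    · rw [SuzukiType.sm_one, sm_one]
  rw [hsm, R, hb, ← add_assoc, add_assoc v, add_self_V, add_zero]

theorem ext6_omega (A : SuzukiType.O6) :
    ext6 A ∈ Cfsg.Omega (ZMod 2) ⇑F8 ↔ A ∈ Cfsg.Omega (ZMod 2) ⇑SuzukiType.F6 := by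
  have hle : ∀ {B : SuzukiType.O6}, B ∈ Cfsg.Omega (ZMod 2) ⇑SuzukiType.F6 →
      ext6 B ∈ Cfsg.Omega (ZMod 2) ⇑F8 := fun {B} hB => by
    have h := Subgroup.mem_map_of_mem ext6 hB
    rw [Cfsg.Omega, _root_.commutator_def, Subgroup.map_commutator] at h
    exact Subgroup.commutator_mono le_top le_top h
  refine ⟨fun h => ?_, hle⟩
  by_contra hA
  obtain ⟨r, hr⟩ : ∃ r : SuzukiType.V, SuzukiType.qf r = 1 := ⟨SuzukiType.k0, by decide⟩
  have hm : A * SuzukiType.rfl' r ∈ Cfsg.Omega (ZMod 2) ⇑SuzukiType.F6 := by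
    rw [Subgroup.mul_mem_iff_of_index_two SuzukiType.omega_index]
    exact iff_of_false hA (SuzukiType.rfl'_notMem hr)
  have h2 := hle hm
  rw [map_mul, ext6_rfl hr, Subgroup.mul_mem_iff_of_index_two omega_index] at h2
  exact rfl'_notMem (by rw [ψ_qf, hr]) (h2.1 h)

theorem ext6_injective : Function.Injective ext6 := by
  intro A B h
  refine ext_act fun w => ?_
  have := congrArg (fun C : O8 => θ (act C (ψ w))) h
  simpa only [act_ext6, θ_extFun, θψ] using this

/-- Isometries fixing the line come from the complement. -/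
theorem exists_ext6 {A : O8} (h0 : act A r0 = r0) (h1 : act A r1 = r1) : ∃ B, ext6 B = A := by
  have hlin : ∀ v w : SuzukiType.V, θ (act A (ψ (v + w))) = θ (act A (ψ v)) + θ (act A (ψ w)) := fun v w => by
    rw [ψ_add, act_add, θ_add]
  have h0' : act A⁻¹ r0 = r0 := by conv_lhs => rw [← h0, act_inv_self]
  have h1' : act A⁻¹ r1 = r1 := by conv_lhs => rw [← h1, act_inv_self]
  let L : SuzukiType.V ≃ₗ[ZMod 2] SuzukiType.V :=
    { toFun := fun w => θ (act A (ψ w))
      invFun := fun w => θ (act A⁻¹ (ψ w))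
      map_add' := hlin
      map_smul' := fun t w => by
        rcases z2 t with rfl | rfl
        · simp only [zero_smul, RingHom.id_apply]
          have h := hlin 0 0
          rw [add_zero] at h
          exact add_left_cancel (h.symm.trans (add_zero _).symm)
        · simp
      left_inv := fun w => by
        show θ (act A⁻¹ (ψ (θ (act A (ψ w))))) = w
        rw [act_θ h0 h1, act_inv_self, θψ]
      right_inv := fun w => by
        show θ (act A (ψ (θ (act A⁻¹ (ψ w))))) = w
        rw [act_θ h0' h1', ← act_mul, mul_inv_cancel, act_one, θψ] }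
  refine ⟨Forms.QuadStd.isoOfEquiv ⇑SuzukiType.F6 L fun w => ?_, ext_act fun v => ?_⟩
  · rw [SuzukiType.F_apply, SuzukiType.F_apply]
    show SuzukiType.qf (θ (act A (ψ w))) = _
    rw [← ψ_qf, act_θ h0 h1, act_qf, ψ_qf]
  · rw [act_ext6, extFun_split]
    rw [show act (Forms.QuadStd.isoOfEquiv ⇑SuzukiType.F6 L _) (θ v) = θ (act A (ψ (θ v))) from
      Forms.QuadStd.isoOfEquiv_mulVec _ _ _ _, act_θ h0 h1]
    conv_rhs => rw [show v = sm (bf v r1) r0 + sm (bf v r0) r1 + ψ (θ v) by
      rw [← rest, add_assoc, add_self_V, add_zero]]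
    rw [act_add, act_add, act_sm, act_sm, h0, h1]

/-- An isometry commuting with the rotation is a power of it times one of the complement. -/
theorem cent_rot {A : O8} (hA : A * rot = rot * A) :
    ∃ (i : ℕ) (B : SuzukiType.O6), A = rot ^ i * ext6 B := by
  have hc : ∀ v, act A (Tv pW v) = Tv pW (act A v) := fun v => by
    rw [← act_rot, ← act_rot, ← act_mul, hA, act_mul]
  have hline : θ (act A r0) = 0 := by
    obtain ⟨v, hv⟩ : ∃ v, Tv pW v + v = r0 := by
      rcases rot_facts with e | e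
      · refine ⟨r1, ?_⟩
        revert e; decide +kernel
      · refine ⟨r0 + r1, ?_⟩
        revert e; decide +kernel
    rw [← hv, act_add, hc]
    rw [θ_add, (rot_spec _).1, SuzukiType.add_self_V]
  obtain ⟨q0, -, b01, n0, -⟩ := r_facts
  have hb : θ (act A r0) = 0 ∧ qf (act A r0) = 1 := ⟨hline, by rw [act_qf, q0]⟩
  have key : ∃ i : ℕ, act (rot ^ i) r0 = act A r0 := by
    rcases line_cases _ hline with e | e | e | e
    · rw [e] at hb; exact absurd hb.2 (by decide)
    · exact ⟨0, by rw [pow_zero, act_one, e]⟩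
    · rcases rot_facts with h | h
      · exact ⟨1, by rw [pow_one, act_rot, h, e]⟩
      · refine ⟨2, ?_⟩
        rw [pow_two, act_mul, act_rot, act_rot, h, e]
        revert h; decide +kernel
    · rcases rot_facts with h | h
      · refine ⟨2, ?_⟩
        rw [pow_two, act_mul, act_rot, act_rot, h, e]
        revert h; decide +kernel
      · exact ⟨1, by rw [pow_one, act_rot, h, e]⟩
  obtain ⟨i, hi⟩ := key
  have hC : Commute ((rot ^ i)⁻¹ * A) rot :=
    (((Commute.refl rot).pow_left i).inv_left).mul_left hA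
  have h0 : act ((rot ^ i)⁻¹ * A) r0 = r0 := by rw [act_mul, ← hi, act_inv_self]
  have hT : act ((rot ^ i)⁻¹ * A) (Tv pW r0) = Tv pW r0 := by
    rw [← act_rot, ← act_mul, hC.eq, act_mul, h0]
  have h1 : act ((rot ^ i)⁻¹ * A) r1 = r1 := by
    rcases rot_facts with h | h <;> rw [h] at hT
    · exact hT
    · rw [act_add, h0] at hT; exact add_left_cancel hT
  obtain ⟨B, hB⟩ := exists_ext6 h0 h1
  exact ⟨i, B, by rw [hB, mul_inv_cancel_left]⟩

theorem rot_ext6 (B : SuzukiType.O6) : Commute rot (ext6 B) := by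
  refine ext_act fun v => ?_
  rw [act_mul, act_mul, act_ext6, act_ext6, act_rot v, extFun_split, extFun_split, (rot_spec v).1, act_add]
  have key : ∀ v : V, Tv pW (sm (bf v r1) r0 + sm (bf v r0) r1) =
      sm (bf (Tv pW v) r1) r0 + sm (bf (Tv pW v) r0) r1 := by decide +kernel
  rw [act_rot, act_rot, key v, (rot_spec _).2.2.2.1 (ψ_perp _).1 (ψ_perp _).2]

set_option maxHeartbeats 1000000 in
/-- An element of order three whose commutator on the space is an elliptic line is conjugate to the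
rotation or its inverse. -/
theorem conj_rot {x : O8} (h3 : x ^ 3 = 1) {v w : V} (hv : qf v = 1) (hw : qf w = 1) (hvw : bf v w = 1)
    (hxv : act x v ≠ v) (hline : ∀ u, act x u + u ∈ ([0, v, w, v + w] : List V))
    (hmv : ∃ u, act x u + u = v) (hmw : ∃ u, act x u + u = w) :
    ∃ A ∈ Cfsg.Omega (ZMod 2) ⇑F8, A * x * A⁻¹ = rot ∨ A * x * A⁻¹ = rot⁻¹ := by
  obtain ⟨A, hA, hAv, hAw⟩ := line_isometry hv hw hvw
  refine ⟨A, hA, ?_⟩
  set y := A * x * A⁻¹ with hy
  have hy3 : y ^ 3 = 1 := by rw [hy, conj_pow, h3, mul_one, mul_inv_cancel]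
  have hya : ∀ u, act y (act A u) = act A (act x u) := fun u => by
    rw [hy, act_mul, act_mul, act_inv_self]
  have hsurj : ∀ u, ∃ u', act A u' = u := fun u =>
    ⟨act A⁻¹ u, by rw [← act_mul, mul_inv_cancel, act_one]⟩
  have hyl : ∀ u, θ (act y u + u) = 0 := fun u => by
    obtain ⟨u', rfl⟩ := hsurj u
    rw [hya, ← act_add]
    have hl := hline u'
    simp only [List.mem_cons, List.not_mem_nil, or_false] at hl
    rcases hl with e | e | e | e <;> rw [e]
    · rw [act_zero]; decide +kernel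
    · rw [hAv, r_facts.2.2.2.2.2.2.1]
    · rw [hAw, r_facts.2.2.2.2.2.2.2.1]
    · rw [act_add, hAv, hAw, θ_add, r_facts.2.2.2.2.2.2.1, r_facts.2.2.2.2.2.2.2.1, add_zero]
  have hyperp : ∀ c, bf c r0 = 0 → bf c r1 = 0 → act y c = c := by
    intro c c0 c1
    have hl := line_cases _ (hyl c)
    refine eq_of_add _ _ ?_
    have horth : ∀ u, bf (act y c + c) (act y u) = 0 := fun u => by
      have e : bf (act y c + c) (act y u) = bf c (act y u + u) := by
        rw [bf_add_left, act_bf, bf_add_right, add_comm]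
      rw [e]
      rcases line_cases _ (hyl u) with e | e | e | e <;> rw [e]
      · exact bf_zero_right c
      · exact c0
      · exact c1
      · rw [bf_add_right, c0, c1, add_zero]
    have hall : ∀ u, bf (act y c + c) u = 0 := fun u => by
      have e := horth (act y⁻¹ u)
      rwa [← act_mul, mul_inv_cancel, act_one] at e
    rcases hl with e | e | e | e
    · exact e
    all_goals
      exfalso
      have h0 := hall r0
      have h1 := hall r1
      rw [e] at h0 h1
      revert h0 h1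
      decide +kernel
  have hne : act y r0 ≠ r0 := fun e => hxv (by
    have h := congrArg (act A⁻¹) (show act A (act x v) = act A v by rw [← hya, hAv, e])
    rwa [act_inv_self, act_inv_self] at h)
  have hy0 : act y r0 = r1 ∨ act y r0 = r0 + r1 := by
    have hq : qf (act y r0) = 1 := by rw [act_qf, r_facts.1]
    have hl := line_cases (act y r0) (by
      have h := hyl r0
      rwa [θ_add, r_facts.2.2.2.2.2.2.1, add_zero] at h)
    rcases hl with e | e | e | e
    · rw [e] at hq; exact absurd hq (by decide)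
    · exact absurd e hne
    · exact Or.inl e
    · exact Or.inr e
  have hy3' : act y (act y (act y r0)) = r0 := by
    rw [← act_mul, ← act_mul, show y * y * y = 1 by rw [← hy3]; simp [pow_succ], act_one]
  have hy1 : act y r1 = (if act y r0 = r1 then r0 + r1 else r0) := by
    have hq : qf (act y r1) = 1 := by rw [act_qf, r_facts.2.1]
    have hl := line_cases (act y r1) (by
      have h := hyl r1
      rwa [θ_add, r_facts.2.2.2.2.2.2.2.1, add_zero] at h)
    have hinj : ∀ u u', act y u = act y u' → u = u' := fun u u' e => by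
      have := congrArg (act y⁻¹) e
      rwa [act_inv_self, act_inv_self] at this
    obtain ⟨-, -, -, -, -, -, -, -, -, -, -, -, n01, -⟩ := r_facts
    rcases hy0 with h | h
    · rw [if_pos h]
      rw [h] at hy3'
      rcases hl with e | e | e | e
      · rw [e] at hq; exact absurd hq (by decide)
      · exfalso; rw [e, h] at hy3'; exact n01 hy3'.symm
      · exact absurd (hinj _ _ (h.trans e.symm)) n01
      · exact e
    · have hn : act y r0 ≠ r1 := by rw [h]; decide +kernel
      rw [if_neg hn]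
      rcases hl with e | e | e | e
      · rw [e] at hq; exact absurd hq (by decide)
      · exact e
      · exfalso
        rw [h, act_add, h, e, show r0 + r1 + r1 = r0 by rw [add_assoc, add_self_V, add_zero]] at hy3'
        exact hne hy3'
      · exact absurd (hinj _ _ (h.trans e.symm)) n01
  have hdec : ∀ u, act y u = sm (bf u r1) (act y r0) + sm (bf u r0) (act y r1) + ψ (θ u) := by
    intro u
    conv_lhs => rw [show u = sm (bf u r1) r0 + sm (bf u r0) r1 + ψ (θ u) by
      rw [← rest, add_assoc, add_self_V, add_zero]]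
    rw [act_add, act_add, act_sm, act_sm, hyperp _ (ψ_perp _).1 (ψ_perp _).2]
  have keyT : (∀ u : V, Tv pW u = sm (bf u r1) r1 + sm (bf u r0) (r0 + r1) + ψ (θ u)) ∧
      (∀ u : V, Tv pW (Tv pW u) = sm (bf u r1) (r0 + r1) + sm (bf u r0) r0 + ψ (θ u)) ∨
      (∀ u : V, Tv pW u = sm (bf u r1) (r0 + r1) + sm (bf u r0) r0 + ψ (θ u)) ∧
      (∀ u : V, Tv pW (Tv pW u) = sm (bf u r1) r1 + sm (bf u r0) (r0 + r1) + ψ (θ u)) := by
    decide +kernel
  have hinv : rot⁻¹ = rot * rot := inv_eq_of_mul_eq_one_right (ext_act fun u => by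
    rw [act_mul, act_mul, act_rot, act_rot, act_rot, act_one]; exact (rot_spec u).2.2.2.2)
  rcases hy0 with h | h
  · rw [if_pos h] at hy1
    rcases keyT with ⟨k, -⟩ | ⟨-, k⟩
    · exact Or.inl (ext_act fun u => by rw [hdec, h, hy1, act_rot, k])
    · exact Or.inr (ext_act fun u => by rw [hdec, h, hy1, hinv, act_mul, act_rot, act_rot, k])
  · rw [if_neg (by rw [h]; decide +kernel)] at hy1
    rcases keyT with ⟨-, k⟩ | ⟨k, -⟩
    · exact Or.inr (ext_act fun u => by rw [hdec, h, hy1, hinv, act_mul, act_rot, act_rot, k])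
    · exact Or.inl (ext_act fun u => by rw [hdec, h, hy1, act_rot, k])

end Cfsg.Agent.ConwayType.ThreeCent
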